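import Groth.Agent.GluePairLib.Basic

universe u

open TensorProduct

namespace Groth.Agent.GluePairLib

variable {R R' : Type u} [CommRing R] [CommRing R'] [Algebra R R'] {f : R}

lemma exists_finset_mem_span {S L : Type u} [CommRing S] [Algebra R S] [AddCommGroup L] [Module R L]
    (x : S ⊗[R] L) : ∃ T : Finset L, x ∈ Submodule.span S ((fun l => (1 : S) ⊗ₜ[R] l) '' (T : Set L)) := by
  classical
  induction x using TensorProduct.induction_on with
  | zero => exact ⟨∅, zero_mem _⟩
  | tmul a l =>
    refine ⟨{l}, ?_⟩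
    rw [show a ⊗ₜ[R] l = a • ((1 : S) ⊗ₜ[R] l) by rw [smul_tmul', smul_eq_mul, mul_one]]
    exact Submodule.smul_mem _ _ (Submodule.subset_span ⟨l, by simp, rfl⟩)
  | add a b ha hb =>
    obtain ⟨T, hT⟩ := ha; obtain ⟨T', hT'⟩ := hb
    exact ⟨T ∪ T', add_mem (Submodule.span_mono (Set.image_mono (by simp)) hT)
      (Submodule.span_mono (Set.image_mono (by simp)) hT')⟩

lemma exists_finset_quot_subsingleton (S L : Type u) [CommRing S] [Algebra R S] [AddCommGroup L] [Module R L]
    [Module.Finite S (S ⊗[R] L)] : ∃ T : Finset L,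
      ∀ L0 : Submodule R L, (T : Set L) ⊆ L0 → Subsingleton (S ⊗[R] (L ⧸ L0)) := by
  classical
  obtain ⟨s, hs⟩ := Module.Finite.fg_top (R := S) (M := S ⊗[R] L)
  choose TS hTS using fun x : S ⊗[R] L => exists_finset_mem_span x
  refine ⟨s.biUnion TS, fun L0 hL0 => ⟨fun a b => ?_⟩⟩
  suffices ∀ x, x = (0 : S ⊗[R] (L ⧸ L0)) by rw [this a, this b]
  intro x
  obtain ⟨y, rfl⟩ := LinearMap.baseChange_surjective S L0.mkQ_surjective x
  have : y ∈ Submodule.span S (s : Set (S ⊗[R] L)) := hs ▸ Submodule.mem_top
  show y ∈ LinearMap.ker (L0.mkQ.baseChange S)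
  refine Submodule.span_le.2 ?_ this
  intro z hz
  refine Submodule.span_le.2 ?_ (hTS z)
  rintro _ ⟨l, hl, rfl⟩
  rw [SetLike.mem_coe, LinearMap.mem_ker, LinearMap.baseChange_tmul, Submodule.mkQ_apply,
    (Submodule.Quotient.mk_eq_zero L0).2 (hL0 (Finset.mem_biUnion.2 ⟨z, hz, hl⟩)), tmul_zero]

theorem finite (hq : EtGlue.QuotPowBijective R R' f) (L : Type u) [AddCommGroup L] [Module R L]
    [Module.Finite R' (R' ⊗[R] L)] [Module.Finite (Localization.Away f) (Localization.Away f ⊗[R] L)] :
    Module.Finite R L := by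
  classical
  obtain ⟨T1, h1⟩ := exists_finset_quot_subsingleton (R := R) R' L
  obtain ⟨T2, h2⟩ := exists_finset_quot_subsingleton (R := R) (Localization.Away f) L
  haveI := h1 (Submodule.span R ((T1 ∪ T2 : Finset L) : Set L))
    (Set.Subset.trans (by simp) Submodule.subset_span)
  haveI := h2 (Submodule.span R ((T1 ∪ T2 : Finset L) : Set L))
    (Set.Subset.trans (by simp) Submodule.subset_span)
  have := subsingleton_of_quot hq (L ⧸ Submodule.span R ((T1 ∪ T2 : Finset L) : Set L))
  exact ⟨⟨T1 ∪ T2, Submodule.Quotient.subsingleton_iff.1 this⟩⟩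

theorem finitePresentation (h : EtGlue.IsGlueingPair R R' f) (L : Type u) [AddCommGroup L] [Module R L]
    [Module.Flat R' (R' ⊗[R] L)] [Module.FinitePresentation R' (R' ⊗[R] L)]
    [Module.Flat (Localization.Away f) (Localization.Away f ⊗[R] L)]
    [Module.FinitePresentation (Localization.Away f) (Localization.Away f ⊗[R] L)] :
    Module.FinitePresentation R L := by
  haveI := flat h L
  haveI := finite h.1 L
  obtain ⟨n, g, hg⟩ := Module.Finite.exists_fin' R L
  refine Module.finitePresentation_of_surjective g hg ?_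
  have hex : Function.Exact (LinearMap.ker g).subtype g := LinearMap.exact_subtype_ker_map g
  have key : ∀ (S : Type u) [CommRing S] [Algebra R S] [Module.FinitePresentation S (S ⊗[R] L)],
      Module.Finite S (S ⊗[R] LinearMap.ker g) := by
    intro S _ _ _
    have hinj : Function.Injective ((LinearMap.ker g).subtype.baseChange S) := by
      rw [LinearMap.baseChange_eq_ltensor]
      exact LinearMap.lTensor_injective_of_exact_of_flat g hg _ Subtype.val_injective hex S
    have hker : LinearMap.range ((LinearMap.ker g).subtype.baseChange S) = LinearMap.ker (g.baseChange S) := by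
      ext x
      rw [LinearMap.mem_ker, LinearMap.baseChange_eq_ltensor]
      exact (lTensor_exact S hex hg x).symm
    have hfg := Module.FinitePresentation.fg_ker (g.baseChange S) (LinearMap.baseChange_surjective S hg)
    rw [← hker] at hfg
    haveI := Module.Finite.iff_fg.2 hfg
    exact Module.Finite.equiv (LinearEquiv.ofInjective _ hinj).symm
  haveI := key R'
  haveI := key (Localization.Away f)
  exact Module.Finite.iff_fg.1 (finite h.1 (LinearMap.ker g))

/-- An `R`-submodule containing everything up to `f`-powers and after base change to `R'` is everything. -/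
theorem eq_top_of_glueing (hq : EtGlue.QuotPowBijective R R' f) {M : Type u} [AddCommGroup M] [Module R M]
    (N : Submodule R M) (h1 : Function.Surjective (N.subtype.lTensor R'))
    (h2 : ∀ m : M, ∃ n : ℕ, f ^ n • m ∈ N) : N = ⊤ := by
  haveI : Subsingleton (R' ⊗[R] (M ⧸ N)) := by
    refine ⟨fun a b => ?_⟩
    suffices ∀ x, x = (0 : R' ⊗[R] (M ⧸ N)) by rw [this a, this b]
    intro x
    obtain ⟨y, rfl⟩ := LinearMap.lTensor_surjective R' N.mkQ_surjective x
    obtain ⟨z, rfl⟩ := h1 y
    rw [← LinearMap.lTensor_comp_apply, show N.mkQ ∘ₗ N.subtype = 0 from LinearMap.ext fun x =>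
      (Submodule.Quotient.mk_eq_zero N).2 x.2, LinearMap.lTensor_zero, LinearMap.zero_apply]
  refine Submodule.Quotient.subsingleton_iff.1 (subsingleton_of_torsion hq fun q => ?_)
  obtain ⟨m, rfl⟩ := Submodule.mkQ_surjective N q
  obtain ⟨n, hn⟩ := h2 m
  exact ⟨n, (Submodule.Quotient.mk_eq_zero N).2 hn⟩

end Groth.Agent.GluePairLib
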