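import Groth.Agent.GluePairLib.Basic

/-! Glueing of algebras along a glueing pair. -/

universe u

open TensorProduct

set_option linter.style.haveILetI false

namespace Groth.Agent.GluePairLib

variable {R R' : Type u} [CommRing R] [CommRing R'] [Algebra R R'] {f : R}
variable {A₁ : Type u} [CommRing A₁] [Algebra R A₁]
variable {A' : Type u} [CommRing A'] [Algebra R A'] [Algebra R' A'] [IsScalarTower R R' A']
variable (φ : Localization.Away (algebraMap R A' f) ≃ₐ[R'] R' ⊗[R] A₁)

/-- The comparison map `A' → R' ⊗ A₁`. -/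
noncomputable def toTensor : A' →ₐ[R'] R' ⊗[R] A₁ :=
  φ.toAlgHom.comp (IsScalarTower.toAlgHom R' A' (Localization.Away (algebraMap R A' f)))

/-- The glued algebra. -/
noncomputable abbrev glue : Subalgebra R (A' × A₁) :=
  AlgHom.equalizer (((toTensor φ).restrictScalars R).comp (AlgHom.fst R A' A₁))
    ((Algebra.TensorProduct.includeRight : A₁ →ₐ[R] R' ⊗[R] A₁).comp (AlgHom.snd R A' A₁))

lemma mem_glue {p : A' × A₁} : p ∈ glue φ ↔ toTensor φ p.1 = (1 : R') ⊗ₜ[R] p.2 := Iff.rfl

/-- The projection to `A₁`. -/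
noncomputable def glueSnd : glue φ →ₐ[R] A₁ := (AlgHom.snd R A' A₁).comp (glue φ).val

/-- The comparison `R' ⊗ A → A'`. -/
noncomputable def glueLift : R' ⊗[R] glue φ →ₐ[R'] A' :=
  Algebra.TensorProduct.lift (Algebra.ofId R' A') ((AlgHom.fst R A' A₁).comp (glue φ).val) fun _ _ => Commute.all _ _

lemma glueLift_one_tmul (a : glue φ) : glueLift φ ((1 : R') ⊗ₜ a) = a.1.1 := by
  rw [glueLift, Algebra.TensorProduct.lift_tmul, map_one, one_mul]; rfl

lemma toTensor_glueLift (t : R' ⊗[R] glue φ) :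
    toTensor φ (glueLift φ t) = Algebra.TensorProduct.map (AlgHom.id R' R') (glueSnd φ) t := by
  induction t using TensorProduct.induction_on with
  | zero => simp
  | tmul r a =>
    rw [glueLift, Algebra.TensorProduct.lift_tmul, map_mul, Algebra.TensorProduct.map_tmul, Algebra.ofId_apply,
      AlgHom.commutes]
    erw [mem_glue φ |>.1 a.2]
    rw [Algebra.TensorProduct.algebraMap_apply, Algebra.TensorProduct.tmul_mul_tmul, mul_one, one_mul]
    rfl
  | add x y hx hy => simp only [map_add, hx, hy]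

lemma toTensor_exists (z : R' ⊗[R] A₁) : ∃ (x : A') (k : ℕ),
    toTensor φ x = algebraMap R (R' ⊗[R] A₁) (f ^ k) * z := by
  obtain ⟨⟨x, _, k, rfl⟩, hx⟩ := IsLocalization.surj (Submonoid.powers (algebraMap R A' f)) (φ.symm z)
  refine ⟨x, k, ?_⟩
  have h := congrArg φ hx
  rw [map_mul, AlgEquiv.apply_symm_apply] at h
  show φ (algebraMap A' _ x) = _
  rw [← h, mul_comm]
  congr 1
  show toTensor φ (algebraMap R A' f ^ k) = _
  rw [show algebraMap R A' f ^ k = algebraMap R' A' (algebraMap R R' (f ^ k)) by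
      rw [← IsScalarTower.algebraMap_apply, map_pow],
    AlgHom.commutes, ← IsScalarTower.algebraMap_apply]

lemma eq_zero_of_toTensor {x : A'} (hx : toTensor φ x = 0) : ∃ k : ℕ, f ^ k • x = 0 := by
  have h : algebraMap A' (Localization.Away (algebraMap R A' f)) x = 0 := φ.injective (by rw [map_zero]; exact hx)
  obtain ⟨⟨_, k, rfl⟩, hk⟩ := (IsLocalization.map_eq_zero_iff (Submonoid.powers (algebraMap R A' f)) _ x).1 h
  exact ⟨k, by rw [Algebra.smul_def, map_pow]; exact hk⟩

variable (h1 : IsUnit (algebraMap R A₁ f))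
include h1

lemma exists_decomp (hq : EtGlue.QuotPowBijective R R' f) (z : R' ⊗[R] A₁) :
    ∃ (u : R' ⊗[R] glue φ) (y : A₁), z = toTensor φ (glueLift φ u) + (1 : R') ⊗ₜ[R] y := by
  induction z using TensorProduct.induction_on with
  | zero => exact ⟨0, 0, by simp⟩
  | tmul r' y =>
    obtain ⟨x, k, hx⟩ := toTensor_exists φ ((1 : R') ⊗ₜ[R] y)
    obtain ⟨r, s, hrs⟩ := exists_sub_mem_span hq (n := k + 1) (Nat.succ_pos k) r'
    have hmem : ((f • x, f ^ (k + 1) • y) : A' × A₁) ∈ glue φ := by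
      rw [mem_glue, TensorProduct.tmul_smul, pow_succ', mul_smul,
        show toTensor φ (f • x) = f • toTensor φ x from map_smul ((toTensor φ).restrictScalars R) f x, hx,
        ← Algebra.smul_def]
      simp only [smul_smul]
    refine ⟨s ⊗ₜ ⟨_, hmem⟩, r • y, ?_⟩
    rw [toTensor_glueLift, Algebra.TensorProduct.map_tmul]
    show _ = s ⊗ₜ[R] (f ^ (k + 1) • y) + _
    conv_lhs => rw [hrs, add_tmul, ← Algebra.smul_def, smul_tmul, add_comm]
    congr 1
    rw [TensorProduct.tmul_smul, smul_tmul', Algebra.smul_def, mul_one]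
  | add a b ha hb =>
    obtain ⟨u, y, rfl⟩ := ha; obtain ⟨v, w, rfl⟩ := hb
    exact ⟨u + v, y + w, by rw [map_add, map_add, tmul_add]; abel⟩

lemma glueLift_surjective (hq : EtGlue.QuotPowBijective R R' f) : Function.Surjective (glueLift φ) := by
  intro x
  obtain ⟨u, y, huy⟩ := exists_decomp φ h1 hq (toTensor φ x)
  have hmem : ((x - glueLift φ u, y) : A' × A₁) ∈ glue φ := by
    rw [mem_glue, map_sub, huy, add_sub_cancel_left]
  exact ⟨(1 : R') ⊗ₜ ⟨_, hmem⟩ + u, by rw [map_add, glueLift_one_tmul]; exact sub_add_cancel x _⟩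

lemma glueSnd_localization :
    IsLocalizedModule (Submonoid.powers f) (glueSnd φ).toLinearMap := by
  refine IsLocalizedModule.mk ?_ ?_ ?_
  · rintro ⟨_, k, rfl⟩
    rw [Module.End.isUnit_iff]
    have hu : IsUnit (algebraMap R A₁ (f ^ k)) := by rw [map_pow]; exact h1.pow k
    show Function.Bijective fun y : A₁ => algebraMap R (Module.End R A₁) (f ^ k) y
    simp only [Module.algebraMap_end_apply, Algebra.smul_def]
    obtain ⟨v, hv⟩ := hu.exists_right_inv
    exact ⟨fun a b hab => hu.mul_left_cancel hab, fun b => ⟨v * b, by show _ * (v * b) = b; rw [← mul_assoc, hv, one_mul]⟩⟩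
  · intro y
    obtain ⟨x, k, hx⟩ := toTensor_exists φ ((1 : R') ⊗ₜ[R] y)
    have hmem : ((x, f ^ k • y) : A' × A₁) ∈ glue φ := by
      rw [mem_glue, TensorProduct.tmul_smul, hx, ← Algebra.smul_def]
    exact ⟨⟨⟨_, hmem⟩, f ^ k, k, rfl⟩, rfl⟩
  · intro a b hab
    have hd : toTensor φ ((a - b : glue φ).1.1) = 0 := by
      rw [(mem_glue φ).1 (a - b).2]
      show (1 : R') ⊗ₜ[R] glueSnd φ (a - b) = 0
      rw [map_sub, show glueSnd φ a = glueSnd φ b from hab, sub_self, tmul_zero]
    obtain ⟨k, hk⟩ := eq_zero_of_toTensor φ hd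
    refine ⟨⟨f ^ k, k, rfl⟩, sub_eq_zero.1 ?_⟩
    show f ^ k • a - f ^ k • b = 0
    rw [← smul_sub]
    apply Subtype.ext
    refine Prod.ext hk ?_
    show f ^ k • glueSnd φ (a - b) = 0
    rw [map_sub, show glueSnd φ a = glueSnd φ b from hab, sub_self, smul_zero]

lemma glueLift_injective (h : EtGlue.IsGlueingPair R R' f) : Function.Injective (glueLift φ) := by
  rw [injective_iff_map_eq_zero]
  intro t ht
  haveI := glueSnd_localization φ h1
  -- `t` is killed by a power of `f`
  have ht0 : (glueSnd φ).toLinearMap.lTensor R' t = 0 := by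
    have h2 := toTensor_glueLift φ t
    rw [ht, map_zero] at h2
    exact h2.symm
  have ht1 : AlgebraTensorModule.rTensor R R' (glueSnd φ).toLinearMap (TensorProduct.comm R R' (glue φ) t) = 0 := by
    have key : ∀ u, AlgebraTensorModule.rTensor R R' (glueSnd φ).toLinearMap (TensorProduct.comm R R' (glue φ) u) =
        TensorProduct.comm R R' A₁ ((glueSnd φ).toLinearMap.lTensor R' u) := fun u => by
      induction u using TensorProduct.induction_on with
      | zero => simp
      | tmul r a => rfl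
      | add a b ha hb => simp only [map_add, ha, hb]
    rw [key, ht0, map_zero]
  obtain ⟨⟨_, m, rfl⟩, hm⟩ := (IsLocalizedModule.eq_zero_iff (Submonoid.powers f)
    (AlgebraTensorModule.rTensor R R' (glueSnd φ).toLinearMap)).1 ht1
  replace hm : f ^ m • t = 0 := (TensorProduct.comm R R' (glue φ)).injective (by rw [map_smul, map_zero]; exact hm)
  let L := Localization.Away f
  let L' := Localization.Away (algebraMap R R' f)
  let x : (R' × L) ⊗[R] glue φ := (LinearMap.inl R R' L).rTensor (glue φ) t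
  have hx : (diff R R' f).rTensor (glue φ) x = 0 := by
    have h2 : f ^ m • (diff R R' f).rTensor (glue φ) x = 0 := by
      rw [← map_smul]
      show (diff R R' f).rTensor (glue φ) (f ^ m • (LinearMap.inl R R' L).rTensor (glue φ) t) = 0
      rw [← map_smul, hm, map_zero, map_zero]
    have hu : IsUnit (algebraMap R L' (f ^ m)) := by
      rw [map_pow, IsScalarTower.algebraMap_apply R R' L']
      exact (IsLocalization.Away.algebraMap_isUnit (algebraMap R R' f)).pow m
    rw [← algebraMap_smul L' (f ^ m)] at h2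
    exact hu.smul_eq_zero.1 h2
  obtain ⟨w, hw⟩ := ((rTensor_exact (glue φ) (iota_diff_exact h) (diff_surjective h)) x).1 hx
  obtain ⟨a, rfl⟩ : ∃ a, w = (1 : R) ⊗ₜ[R] a := ⟨TensorProduct.lid R _ w, ((TensorProduct.lid R _).symm_apply_apply w).symm⟩
  have hwt : (1 : R') ⊗ₜ[R] a = t := by
    have h2 := congrArg ((LinearMap.fst R R' L).rTensor (glue φ)) hw
    simp only [x, ← LinearMap.rTensor_comp_apply, LinearMap.fst_comp_inl, LinearMap.rTensor_id_apply,
      LinearMap.rTensor_tmul] at h2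
    simpa [iota] using h2
  have hwL : (1 : L) ⊗ₜ[R] a = 0 := by
    have h2 := congrArg ((LinearMap.snd R R' L).rTensor (glue φ)) hw
    simp only [x, ← LinearMap.rTensor_comp_apply, LinearMap.snd_comp_inl, LinearMap.rTensor_zero,
      LinearMap.rTensor_tmul] at h2
    simpa [iota] using h2
  obtain ⟨⟨_, k, rfl⟩, hk⟩ := (IsLocalizedModule.eq_zero_iff (Submonoid.powers f)
    (TensorProduct.mk R L (glue φ) 1)).1 hwL
  change f ^ k • a = 0 at hk
  have ha1 : a.1.1 = 0 := by rw [← glueLift_one_tmul φ a, hwt, ht]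
  have ha2 : a.1.2 = 0 := by
    have h2 : f ^ k • a.1.2 = 0 := congrArg (fun p : glue φ => p.1.2) hk
    rw [Algebra.smul_def, map_pow] at h2
    exact (h1.pow k).mul_right_eq_zero.1 h2
  rw [← hwt, show a = 0 from Subtype.ext (Prod.ext ha1 ha2), tmul_zero]

theorem isGlueable_glue (h : EtGlue.IsGlueingPair R R' f) : EtGlue.IsGlueable R R' f (glue φ) := by
  haveI := glueSnd_localization φ h1
  refine ⟨fun a b hab => ?_, fun x y hxy => ?_⟩
  · obtain ⟨hx, hy⟩ := Prod.mk.injEq .. ▸ hab
    have h2 : f ^ 0 • a.1.1 = f ^ 0 • b.1.1 := by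
      rw [← glueLift_one_tmul φ a, ← glueLift_one_tmul φ b, hx]
    obtain ⟨⟨_, k, rfl⟩, hk⟩ := (IsLocalizedModule.eq_iff_exists (Submonoid.powers f) _).1 hy
    refine Subtype.ext (Prod.ext (by simpa using h2) ?_)
    have h3 : f ^ k • a.1.2 = f ^ k • b.1.2 := congrArg (fun p : glue φ => p.1.2) hk
    rw [Algebra.smul_def, Algebra.smul_def, map_pow] at h3
    exact (h1.pow k).mul_left_cancel h3
  · obtain ⟨⟨a₀, ⟨_, k, rfl⟩⟩, hy⟩ := IsLocalizedModule.surj (Submonoid.powers f)
      (LocalizedModule.mkLinearMap (Submonoid.powers f) (glue φ)) y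
    have hky : f ^ k • y = LocalizedModule.mkLinearMap (Submonoid.powers f) (glue φ) a₀ := hy
    have h2 : EtGlue.locOfTensor R R' f (glue φ) (f ^ k • x) =
        EtGlue.locOfTensor R R' f (glue φ) ((1 : R') ⊗ₜ a₀) := by
      rw [map_smul, hxy, ← map_smul, hky]
      exact IsLocalizedModule.map_apply _ _ _ _ _
    obtain ⟨⟨_, j, rfl⟩, hj⟩ := (IsLocalizedModule.eq_iff_exists (Submonoid.powers f) _).1 h2
    change f ^ j • f ^ k • x = f ^ j • ((1 : R') ⊗ₜ[R] a₀) at hj
    let H : R' ⊗[R] glue φ →ₗ[R] R' ⊗[R] A₁ := (glueSnd φ).toLinearMap.lTensor R'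
    obtain ⟨y₁, hy₁⟩ : ∃ y₁ : A₁, f ^ k • y₁ = glueSnd φ a₀ := by
      have hu : IsUnit (algebraMap R A₁ (f ^ k)) := by rw [map_pow]; exact h1.pow k
      obtain ⟨v, hv⟩ := hu.exists_right_inv
      exact ⟨v * glueSnd φ a₀, by rw [Algebra.smul_def, ← mul_assoc, hv, one_mul]⟩
    have hmem : ((glueLift φ x, y₁) : A' × A₁) ∈ glue φ := by
      rw [mem_glue, toTensor_glueLift]
      have hu : IsUnit (algebraMap R (R' ⊗[R] A₁) (f ^ (j + k))) := by
        have := h1.map (Algebra.TensorProduct.includeRight : A₁ →ₐ[R] R' ⊗[R] A₁)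
        rw [AlgHom.commutes] at this
        rw [map_pow]; exact this.pow _
      apply hu.mul_left_cancel
      rw [← Algebra.smul_def, ← Algebra.smul_def]
      show f ^ (j + k) • H x = _
      rw [← map_smul, pow_add, mul_smul, hj, map_smul, mul_smul, ← TensorProduct.tmul_smul (f ^ k), hy₁]
      rfl
    refine ⟨⟨_, hmem⟩, glueLift_injective φ h1 h (glueLift_one_tmul φ _), ?_⟩
    have hu := IsLocalizedModule.map_units (LocalizedModule.mkLinearMap (Submonoid.powers f) (glue φ))
      (⟨f ^ k, k, rfl⟩ : Submonoid.powers f)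
    apply ((Module.End.isUnit_iff _).1 hu).1
    show f ^ k • _ = f ^ k • y
    rw [hky, Module.End.one_apply, ← LinearMap.map_smul (LocalizedModule.mkLinearMap (Submonoid.powers f) (glue φ)), IsLocalizedModule.eq_iff_exists (Submonoid.powers f)
      (LocalizedModule.mkLinearMap (Submonoid.powers f) (glue φ))]
    apply IsLocalizedModule.exists_of_eq (S := Submonoid.powers f) (f := (glueSnd φ).toLinearMap)
    exact hy₁

end Groth.Agent.GluePairLib
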