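import Groth.Agent.GluePairLib.BaseChange

universe u

open TensorProduct

namespace Groth.Agent.GluePairLib

variable {R R' : Type u} [CommRing R] [CommRing R'] [Algebra R R'] {f : R}
variable {A B : Type u} [CommRing A] [Algebra R A] [CommRing B] [Algebra R B]
variable [Algebra A B] [IsScalarTower R A B]

/-- Properties of `R' ⊗ φ` are properties of `A ⊗ R' → (A ⊗ R') ⊗_A B`. -/
lemma prop_map_iff {P : ∀ {R S : Type u} [CommRing R] [CommRing S], (R →+* S) → Prop}
    (hP : RingHom.RespectsIso P) :
    P (Algebra.TensorProduct.map (AlgHom.id R R') (IsScalarTower.toAlgHom R A B)).toRingHom ↔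
      P (algebraMap (A ⊗[R] R') ((A ⊗[R] R') ⊗[A] B)) := by
  let cA : A ⊗[R] R' ≃+* R' ⊗[R] A := (Algebra.TensorProduct.comm R A R').toRingEquiv
  let e : (A ⊗[R] R') ⊗[A] B ≃+* R' ⊗[R] B :=
    (Algebra.TensorProduct.comm A (A ⊗[R] R') B).toRingEquiv.trans
      ((Algebra.TensorProduct.cancelBaseChange R A A B R').toRingEquiv.trans
        (Algebra.TensorProduct.comm R B R').toRingEquiv)
  let m := (Algebra.TensorProduct.map (AlgHom.id R R') (IsScalarTower.toAlgHom R A B)).toRingHom
  have h : m.comp cA.toRingHom = e.toRingHom.comp (algebraMap (A ⊗[R] R') ((A ⊗[R] R') ⊗[A] B)) := by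
    refine RingHom.ext fun t => ?_
    induction t using TensorProduct.induction_on with
    | zero => simp
    | tmul a r => simp [m, cA, e, Algebra.TensorProduct.algebraMap_apply, Algebra.smul_def]
    | add x y hx hy => simp only [map_add, hx, hy]
  constructor
  · intro hm
    have h2 : P (e.toRingHom.comp (algebraMap (A ⊗[R] R') ((A ⊗[R] R') ⊗[A] B))) := h ▸ hP.2 m cA hm
    have h3 := hP.1 _ e.symm h2
    rwa [← RingHom.comp_assoc, RingEquiv.toRingHom_eq_coe, RingEquiv.toRingHom_eq_coe,
      RingEquiv.symm_comp, RingHom.id_comp] at h3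
  · intro hm
    have h2 : P (m.comp cA.toRingHom) := h.symm ▸ hP.1 _ e hm
    have h3 := hP.2 _ cA.symm h2
    rwa [RingHom.comp_assoc, RingEquiv.toRingHom_eq_coe, RingEquiv.toRingHom_eq_coe,
      RingEquiv.comp_symm, RingHom.comp_id] at h3

lemma prop_awayMap_iff {P : ∀ {R S : Type u} [CommRing R] [CommRing S], (R →+* S) → Prop}
    (hP : RingHom.RespectsIso P) (g : A) :
    P (Localization.awayMap (algebraMap A B) g) ↔
      P (algebraMap (Localization.Away g) (Localization.Away g ⊗[A] B)) := by
  let Ag := Localization.Away g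
  let Bg := Localization.Away (algebraMap A B g)
  letI := (Localization.awayMap (algebraMap A B) g).toAlgebra
  haveI : IsScalarTower A Ag Bg := IsScalarTower.of_algebraMap_eq fun a => by
    rw [IsScalarTower.algebraMap_apply A B Bg, RingHom.algebraMap_toAlgebra]
    exact (IsLocalization.map_eq _ a).symm
  haveI : IsLocalization (Algebra.algebraMapSubmonoid B (Submonoid.powers g)) Bg := by
    rw [Algebra.algebraMapSubmonoid, Submonoid.map_powers]; infer_instance
  haveI : Algebra.IsPushout A Ag B Bg := (Algebra.isPushout_of_isLocalization (Submonoid.powers g) Ag B Bg).symm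
  let e := (Algebra.IsPushout.equiv A Ag B Bg).toRingEquiv
  have h : e.toRingHom.comp (algebraMap Ag (Ag ⊗[A] B)) = Localization.awayMap (algebraMap A B) g :=
    RingHom.ext fun a => (Algebra.IsPushout.equiv A Ag B Bg).commutes a
  constructor
  · intro hm
    have h3 := hP.1 _ e.symm (h.symm ▸ hm)
    rwa [← RingHom.comp_assoc, RingEquiv.toRingHom_eq_coe, RingEquiv.toRingHom_eq_coe,
      RingEquiv.symm_comp, RingHom.id_comp] at h3
  · intro hm
    exact h ▸ hP.1 _ e hm

/-- Flatness is detected by a glueing pair. -/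
theorem flat_algebra (h : EtGlue.IsGlueingPair R R' f) (hA : EtGlue.IsGlueable R R' f A)
    (h1 : Module.Flat (Localization.Away (algebraMap R A f)) (Localization.Away (algebraMap R A f) ⊗[A] B))
    (h2 : Module.Flat (A ⊗[R] R') ((A ⊗[R] R') ⊗[A] B)) : Module.Flat A B :=
  flat (isGlueingPair_baseChange A h hA) B

/-- Finite presentation is detected, for a flat algebra of finite type. -/
theorem finitePresentation_algebra (hq : EtGlue.QuotPowBijective R R' f) [Module.Flat A B]
    [Algebra.FiniteType A B]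
    [Algebra.FinitePresentation (Localization.Away (algebraMap R A f)) (Localization.Away (algebraMap R A f) ⊗[A] B)]
    [Algebra.FinitePresentation (A ⊗[R] R') ((A ⊗[R] R') ⊗[A] B)] :
    Algebra.FinitePresentation A B := by
  classical
  obtain ⟨n, π, hπ⟩ := Algebra.FiniteType.iff_quotient_mvPolynomial''.1 (inferInstance : Algebra.FiniteType A B)
  let P := MvPolynomial (Fin n) A
  let J : Ideal P := RingHom.ker π.toRingHom
  have key : ∀ (S : Type u) [CommRing S] [Algebra A S] [Algebra.FinitePresentation S (S ⊗[A] B)],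
      ∃ T : Finset P, (T : Set P) ⊆ J ∧ ∀ J0 : Ideal P, (T : Set P) ⊆ J0 → ∀ hle : J0 ≤ J,
        Function.Injective
          ((Ideal.Quotient.liftₐ J0 π fun x hx => hle hx).toLinearMap.lTensor S) := by
    intro S _ _ _
    let πS : S ⊗[A] P →ₐ[S] S ⊗[A] B := Algebra.TensorProduct.map (AlgHom.id S S) π
    have hπS : Function.Surjective πS := by
      intro z
      obtain ⟨y, hy⟩ := LinearMap.lTensor_surjective S (g := π.toLinearMap) hπ z
      exact ⟨y, hy⟩
    haveI : Algebra.FinitePresentation S (S ⊗[A] P) := inferInstance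
    obtain ⟨s, hs⟩ := Algebra.FinitePresentation.ker_fG_of_surjective πS hπS
    have hex := lTensor_exact S (LinearMap.exact_subtype_ker_map π.toLinearMap) hπ
    let K : Submodule A P := LinearMap.ker π.toLinearMap
    have hrep : ∀ z : S ⊗[A] P, πS z = 0 → ∃ T : Finset P, (T : Set P) ⊆ J ∧
        z ∈ Ideal.span ((fun j => (1 : S) ⊗ₜ[A] j) '' (T : Set P)) := by
      intro z hz
      obtain ⟨w, rfl⟩ := (hex z).1 hz
      clear hz
      induction w using TensorProduct.induction_on with
      | zero => exact ⟨∅, by simp, by simp⟩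
      | tmul c j =>
        refine ⟨{(j : P)}, by simpa [J] using j.2, ?_⟩
        rw [LinearMap.lTensor_tmul, show c ⊗ₜ[A] K.subtype j = (c ⊗ₜ[A] (1 : P)) * ((1 : S) ⊗ₜ[A] (j : P)) by simp]
        exact Ideal.mul_mem_left _ _ (Ideal.subset_span ⟨j, by simp, rfl⟩)
      | add a b ha hb =>
        obtain ⟨T, hT, hTa⟩ := ha; obtain ⟨T', hT', hTb⟩ := hb
        refine ⟨T ∪ T', by simp [hT, hT'], ?_⟩
        rw [map_add]
        exact add_mem (Ideal.span_mono (Set.image_mono (by simp)) hTa) (Ideal.span_mono (Set.image_mono (by simp)) hTb)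
    choose T hTJ hT using hrep
    have hs0 : ∀ z ∈ s, πS z = 0 := fun z hz => by
      have : z ∈ Ideal.span (s : Set (S ⊗[A] P)) := Ideal.subset_span hz
      rw [hs] at this; exact this
    refine ⟨s.attach.biUnion fun z => T z.1 (hs0 z.1 z.2), ?_, fun J0 hJ0 hle => ?_⟩
    · intro x hx
      obtain ⟨z, -, hz⟩ := Finset.mem_biUnion.1 hx
      exact hTJ _ _ hz
    · rw [injective_iff_map_eq_zero]
      intro x hx
      let q : P →ₐ[A] P ⧸ J0 := Ideal.Quotient.mkₐ A J0
      let qS : S ⊗[A] P →ₐ[S] S ⊗[A] (P ⧸ J0) := Algebra.TensorProduct.map (AlgHom.id S S) q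
      obtain ⟨y, rfl⟩ := LinearMap.lTensor_surjective S (g := q.toLinearMap) Ideal.Quotient.mk_surjective x
      have hy : πS y = 0 := by
        rw [← LinearMap.lTensor_comp_apply] at hx
        exact hx
      have hyk : y ∈ Ideal.span (s : Set (S ⊗[A] P)) := by rw [hs]; exact hy
      show qS y = 0
      suffices Ideal.span (s : Set (S ⊗[A] P)) ≤ RingHom.ker qS.toRingHom from this hyk
      rw [Ideal.span_le]
      intro z hz
      refine Ideal.span_le.2 ?_ (hT z (hs0 z hz))
      rintro _ ⟨j, hj, rfl⟩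
      show qS ((1 : S) ⊗ₜ[A] j) = 0
      have hjm : Ideal.Quotient.mk J0 j = 0 := Ideal.Quotient.eq_zero_iff_mem.2
        (hJ0 (Finset.mem_biUnion.2 ⟨⟨z, hz⟩, Finset.mem_attach _ _, hj⟩))
      simp [qS, q, hjm]
  obtain ⟨T1, hT1, h1⟩ := key (Localization.Away (algebraMap R A f))
  obtain ⟨T2, hT2, h2⟩ := key (A ⊗[R] R')
  let J0 : Ideal P := Ideal.span ((T1 ∪ T2 : Finset P) : Set P)
  have hle : J0 ≤ J := Ideal.span_le.2 (by simp [hT1, hT2])
  let p : P ⧸ J0 →ₐ[A] B := Ideal.Quotient.liftₐ J0 π fun x hx => hle hx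
  have hp : Function.Surjective p := fun b => by
    obtain ⟨y, hy⟩ := hπ b
    exact ⟨Ideal.Quotient.mk J0 y, hy⟩
  let K := LinearMap.ker p.toLinearMap
  have hK : ∀ (S : Type u) [CommRing S] [Algebra A S], Function.Injective (p.toLinearMap.lTensor S) →
      Subsingleton (S ⊗[A] K) := by
    intro S _ _ hinj
    have h3 := LinearMap.lTensor_injective_of_exact_of_flat p.toLinearMap hp K.subtype K.injective_subtype
      (LinearMap.exact_subtype_ker_map _) S
    have h4 := lTensor_exact S (LinearMap.exact_subtype_ker_map p.toLinearMap) hp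
    refine ⟨fun a b => h3 (hinj ?_)⟩
    rw [(h4 _).2 ⟨a, rfl⟩, (h4 _).2 ⟨b, rfl⟩]
  haveI := hK _ (h1 J0 (Set.Subset.trans (by simp) Ideal.subset_span) hle)
  haveI := hK _ (h2 J0 (Set.Subset.trans (by simp) Ideal.subset_span) hle)
  haveI := subsingleton_of_quot (quotPowBijective_baseChange A hq) K
  have hp' : Function.Injective p := by
    rw [injective_iff_map_eq_zero]
    intro x hx
    exact congrArg Subtype.val (Subsingleton.elim (⟨x, hx⟩ : K) 0)
  haveI : Algebra.FinitePresentation A (P ⧸ J0) :=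
    Algebra.FinitePresentation.quotient ⟨T1 ∪ T2, rfl⟩
  exact Algebra.FinitePresentation.equiv (AlgEquiv.ofBijective p ⟨hp', hp⟩)

theorem formallyUnramified_algebra (hq : EtGlue.QuotPowBijective R R' f)
    [Algebra.FormallyUnramified (Localization.Away (algebraMap R A f)) (Localization.Away (algebraMap R A f) ⊗[A] B)]
    [Algebra.FormallyUnramified (A ⊗[R] R') ((A ⊗[R] R') ⊗[A] B)] : Algebra.FormallyUnramified A B := by
  have key : ∀ (S : Type u) [CommRing S] [Algebra A S] [Algebra.FormallyUnramified S (S ⊗[A] B)],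
      Subsingleton (S ⊗[A] KaehlerDifferential A B) := by
    intro S _ _ _
    letI : Algebra B (S ⊗[A] B) := Algebra.TensorProduct.rightAlgebra
    exact (KaehlerDifferential.tensorKaehlerEquivBase A S B (S ⊗[A] B)).toEquiv.subsingleton
  haveI := key (Localization.Away (algebraMap R A f))
  haveI := key (A ⊗[R] R')
  exact ⟨subsingleton_of_quot (quotPowBijective_baseChange A hq) _⟩

end Groth.Agent.GluePairLib
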