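import Groth.Agent.GluePairLib.Descent

universe u

open TensorProduct

namespace Groth.Agent.GluePairLib

variable {R R' : Type u} [CommRing R] [CommRing R'] [Algebra R R'] {f : R}
variable (A : Type u) [CommRing A] [Algebra R A]

lemma algebraMap_tensor_eq (n : ℕ) : algebraMap A (A ⊗[R] R') (algebraMap R A f ^ n) =
    (1 : A) ⊗ₜ[R] algebraMap R R' (f ^ n) := by
  rw [← map_pow, Algebra.TensorProduct.algebraMap_apply]
  simp only [Algebra.algebraMap_self, RingHom.id_apply]
  rw [Algebra.algebraMap_eq_smul_one, smul_tmul, Algebra.algebraMap_eq_smul_one]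

theorem quotPowBijective_baseChange (hq : EtGlue.QuotPowBijective R R' f) :
    EtGlue.QuotPowBijective A (A ⊗[R] R') (algebraMap R A f) := by
  intro n hn
  constructor
  · -- retraction
    rw [injective_iff_map_eq_zero]
    intro x hx
    obtain ⟨a, rfl⟩ := Ideal.Quotient.mk_surjective x
    rw [Ideal.quotientMap_mk, Ideal.Quotient.eq_zero_iff_mem, Ideal.map_span, Set.image_singleton,
      Ideal.mem_span_singleton'] at hx
    obtain ⟨t, ht⟩ := hx
    let I : Ideal R := Ideal.span {f ^ n}
    let Q := A ⧸ Ideal.span {algebraMap R A f ^ n}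
    have hI : ∀ r ∈ I, algebraMap R Q r = 0 := by
      intro r hr
      obtain ⟨c, rfl⟩ := Ideal.mem_span_singleton'.1 hr
      rw [IsScalarTower.algebraMap_apply R A Q, Ideal.Quotient.algebraMap_eq, Ideal.Quotient.eq_zero_iff_mem,
        map_mul, map_pow]
      exact Ideal.mul_mem_left _ _ (Ideal.mem_span_singleton_self _)
    let e := RingEquiv.ofBijective _ (hq n hn)
    let ψ₀ : R' →+* Q := (Ideal.Quotient.lift I (algebraMap R Q) hI).comp
      (e.symm.toRingHom.comp (Ideal.Quotient.mk _))
    let ψ : R' →ₐ[R] Q :=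
      { ψ₀ with
        commutes' := fun r => by
          show Ideal.Quotient.lift I (algebraMap R Q) hI (e.symm (Ideal.Quotient.mk _ (algebraMap R R' r))) = _
          have : e.symm (Ideal.Quotient.mk _ (algebraMap R R' r)) = Ideal.Quotient.mk I r := by
            rw [RingEquiv.symm_apply_eq]
            exact (Ideal.quotientMap_mk (H := Ideal.le_comap_map)).symm
          rw [this, Ideal.Quotient.lift_mk] }
    let θ : A ⊗[R] R' →ₐ[A] Q := Algebra.TensorProduct.lift (Algebra.ofId A Q) ψ (fun _ _ => mul_comm _ _)
    have := congrArg θ ht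
    rw [map_mul, AlgHom.commutes, AlgHom.commutes] at this
    rw [show algebraMap A Q (algebraMap R A f ^ n) = 0 from
      Ideal.Quotient.eq_zero_iff_mem.2 (Ideal.mem_span_singleton_self _), mul_zero] at this
    exact this.symm
  · intro x
    obtain ⟨t, rfl⟩ := Ideal.Quotient.mk_surjective x
    induction t using TensorProduct.induction_on with
    | zero => exact ⟨0, by simp⟩
    | tmul a r' =>
      obtain ⟨r, s, hrs⟩ := exists_sub_mem_span hq hn r'
      refine ⟨Ideal.Quotient.mk _ (r • a), ?_⟩
      rw [Ideal.quotientMap_mk, Ideal.Quotient.eq, Ideal.map_span, Set.image_singleton,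
        Ideal.mem_span_singleton']
      refine ⟨-(a ⊗ₜ s), ?_⟩
      rw [algebraMap_tensor_eq, hrs, neg_mul, Algebra.TensorProduct.tmul_mul_tmul, mul_one, tmul_add,
        Algebra.TensorProduct.algebraMap_apply, Algebra.algebraMap_self, RingHom.id_apply, mul_comm s]
      rw [show a ⊗ₜ[R] algebraMap R R' r = (r • a) ⊗ₜ[R] (1 : R') by
        rw [Algebra.algebraMap_eq_smul_one, smul_tmul]]
      abel
    | add a b ha hb =>
      obtain ⟨p, hp⟩ := ha; obtain ⟨q, hq'⟩ := hb
      exact ⟨p + q, by rw [map_add, hp, hq', map_add]⟩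

theorem isGlueingPair_baseChange (h : EtGlue.IsGlueingPair R R' f) (hA : EtGlue.IsGlueable R R' f A) :
    EtGlue.IsGlueingPair A (A ⊗[R] R') (algebraMap R A f) := by
  refine ⟨quotPowBijective_baseChange A h.1, ?_, ?_, ?_⟩
  · intro a b hab
    simp only [Prod.mk.injEq] at hab
    obtain ⟨⟨_, n, rfl⟩, hn⟩ := (IsLocalization.eq_iff_exists (Submonoid.powers (algebraMap R A f)) _).1 hab.2
    apply hA.1
    refine Prod.ext ?_ ?_
    · have := congrArg (Algebra.TensorProduct.comm R A R') hab.1
      simpa [Algebra.TensorProduct.algebraMap_apply] using this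
    · refine (IsLocalizedModule.eq_iff_exists (Submonoid.powers f) _).2 ⟨⟨f ^ n, n, rfl⟩, ?_⟩
      rw [Submonoid.smul_def, Submonoid.smul_def, Algebra.smul_def, Algebra.smul_def, map_pow]
      exact hn
  · intro x y hxy
    obtain ⟨⟨a, ⟨_, n, rfl⟩⟩, rfl⟩ := IsLocalization.mk'_surjective (Submonoid.powers (algebraMap R A f)) y
    let T := A ⊗[R] R'
    let g : A := algebraMap R A f
    have h1 : algebraMap T (Localization.Away (algebraMap A T g)) (x * algebraMap A T (g ^ n)) =
        algebraMap T _ (algebraMap A T a) := by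
      rw [map_mul, hxy]
      have := congrArg (Localization.awayMap (algebraMap A T) g)
        (IsLocalization.mk'_spec (Localization.Away g) a (⟨g ^ n, n, rfl⟩ : Submonoid.powers g))
      rw [map_mul] at this
      have he : ∀ a : A, Localization.awayMap (algebraMap A T) g (algebraMap A (Localization.Away g) a) =
          algebraMap T _ (algebraMap A T a) := fun a => IsLocalization.map_eq _ a
      rw [he, he] at this
      exact this
    obtain ⟨⟨_, k, rfl⟩, hk⟩ := (IsLocalization.eq_iff_exists (Submonoid.powers (algebraMap A T g)) _).1 h1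
    have hsm : ∀ (m : ℕ) (t : T), f ^ m • t = algebraMap A T g ^ m * t := fun m t => by
      rw [Algebra.smul_def, map_pow, IsScalarTower.algebraMap_apply R A T]
    let c := Algebra.TensorProduct.comm R A R'
    have hc : f ^ k • (f ^ n • c x) = f ^ k • ((1 : R') ⊗ₜ[R] a) := by
      have hk' : f ^ k • (f ^ n • x) = f ^ k • algebraMap A T a := by
        rw [hsm, hsm, hsm]
        rw [map_pow] at hk
        simpa [mul_comm x] using hk
      have := congrArg c hk'
      simpa [c, Algebra.TensorProduct.algebraMap_apply, T] using this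
    have h2 : EtGlue.locOfTensor R R' f A (c x) = EtGlue.tensorOfLoc R R' f A
        (LocalizedModule.mk a (⟨f ^ n, n, rfl⟩ : Submonoid.powers f)) := by
      have hu := IsLocalizedModule.map_units (LocalizedModule.mkLinearMap (Submonoid.powers f) (R' ⊗[R] A))
        (⟨f ^ n, n, rfl⟩ : Submonoid.powers f)
      rw [Module.End.isUnit_iff] at hu
      apply hu.1
      show f ^ n • EtGlue.locOfTensor R R' f A (c x) = f ^ n • EtGlue.tensorOfLoc R R' f A _
      rw [← (EtGlue.locOfTensor R R' f A).map_smul, ← (EtGlue.tensorOfLoc R R' f A).map_smul]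
      have : f ^ n • LocalizedModule.mk a (⟨f ^ n, n, rfl⟩ : Submonoid.powers f) =
          LocalizedModule.mkLinearMap (Submonoid.powers f) A a := by
        rw [LocalizedModule.mkLinearMap_apply, LocalizedModule.smul'_mk]
        exact LocalizedModule.mk_cancel (⟨f ^ n, n, rfl⟩ : Submonoid.powers f) a
      erw [this, IsLocalizedModule.map_apply]
      exact (IsLocalizedModule.eq_iff_exists (Submonoid.powers f) _).2 ⟨⟨f ^ k, k, rfl⟩, hc⟩
    obtain ⟨m, hm1, hm2⟩ := hA.2 _ _ h2
    refine ⟨m, ?_, ?_⟩
    · apply c.injective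
      rw [← hm1]
      simp [c, Algebra.TensorProduct.algebraMap_apply]
    · rw [LocalizedModule.mkLinearMap_apply, LocalizedModule.mk_eq] at hm2
      obtain ⟨⟨_, j, rfl⟩, hj⟩ := hm2
      rw [IsLocalization.eq_mk'_iff_mul_eq, ← map_mul, IsLocalization.eq_iff_exists (Submonoid.powers g)]
      refine ⟨⟨g ^ j, j, rfl⟩, ?_⟩
      simp only [Submonoid.smul_def, Submonoid.coe_one, one_smul, Algebra.smul_def, map_pow] at hj
      show g ^ j * (m * g ^ n) = g ^ j * a
      rw [mul_comm m]; exact hj
  · intro z
    let T := A ⊗[R] R'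
    let g : A := algebraMap R A f
    obtain ⟨⟨t, ⟨_, n, rfl⟩⟩, rfl⟩ := IsLocalization.mk'_surjective (Submonoid.powers (algebraMap A T g)) z
    have he : ∀ a : A, Localization.awayMap (algebraMap A T) g (algebraMap A (Localization.Away g) a) =
        algebraMap T _ (algebraMap A T a) := fun a => IsLocalization.map_eq _ a
    suffices ∃ (x : T) (b : A) (k : ℕ),
        algebraMap T (Localization.Away (algebraMap A T g)) (algebraMap A T g ^ k * t) =
          algebraMap T _ (algebraMap A T g ^ (n + k) * x - algebraMap A T g ^ n * algebraMap A T b) by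
      obtain ⟨x, b, k, hk⟩ := this
      refine ⟨x, IsLocalization.mk' _ b (⟨g ^ k, k, rfl⟩ : Submonoid.powers g), ?_⟩
      have hb := congrArg (Localization.awayMap (algebraMap A T) g)
        (IsLocalization.mk'_spec (Localization.Away g) b (⟨g ^ k, k, rfl⟩ : Submonoid.powers g))
      rw [map_mul, he, he, map_pow, map_pow] at hb
      have ht := IsLocalization.mk'_spec (Localization.Away (algebraMap A T g)) t
        (⟨algebraMap A T g ^ n, n, rfl⟩ : Submonoid.powers (algebraMap A T g))
      rw [map_pow] at ht
      simp only [map_mul, map_pow, map_sub] at hk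
      apply ((IsLocalization.Away.algebraMap_isUnit (S := Localization.Away (algebraMap A T g))
        (algebraMap A T g)).pow (n + k)).mul_left_injective
      simp only
      rw [sub_mul, pow_add]
      rw [pow_add] at hk
      linear_combination
        -(algebraMap T (Localization.Away (algebraMap A T g)) (algebraMap A T g) ^ k) * ht - hk
          - (algebraMap T (Localization.Away (algebraMap A T g)) (algebraMap A T g) ^ n) * hb
    induction t using TensorProduct.induction_on with
    | zero => exact ⟨0, 0, 0, by simp⟩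
    | add t1 t2 h1 h2 =>
      obtain ⟨x1, b1, k1, e1⟩ := h1
      obtain ⟨x2, b2, k2, e2⟩ := h2
      refine ⟨x1 + x2, g ^ k2 * b1 + g ^ k1 * b2, k1 + k2, ?_⟩
      simp only [map_mul, map_sub, map_add, map_pow] at e1 e2 ⊢
      simp only [pow_add] at e1 e2 ⊢
      linear_combination
        (algebraMap T (Localization.Away (algebraMap A T g)) (algebraMap A T g) ^ k2) * e1 +
        (algebraMap T (Localization.Away (algebraMap A T g)) (algebraMap A T g) ^ k1) * e2
    | tmul a r' =>
      obtain ⟨x, y, hxy⟩ := h.2.2.2 (IsLocalization.mk' _ r'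
        (⟨algebraMap R R' f ^ n, n, rfl⟩ : Submonoid.powers (algebraMap R R' f)))
      obtain ⟨⟨b, ⟨_, k, rfl⟩⟩, rfl⟩ := IsLocalization.mk'_surjective (Submonoid.powers f) y
      have hb := congrArg (Localization.awayMap (algebraMap R R') f)
        (IsLocalization.mk'_spec (Localization.Away f) b (⟨f ^ k, k, rfl⟩ : Submonoid.powers f))
      have her : ∀ r : R, Localization.awayMap (algebraMap R R') f (algebraMap R (Localization.Away f) r) =
        algebraMap R' _ (algebraMap R R' r) := fun r => IsLocalization.map_eq _ r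
      rw [map_mul, her, her, map_pow] at hb
      have ht := IsLocalization.mk'_spec (Localization.Away (algebraMap R R' f)) r'
        (⟨algebraMap R R' f ^ n, n, rfl⟩ : Submonoid.powers (algebraMap R R' f))
      have h1 : algebraMap R' (Localization.Away (algebraMap R R' f)) (algebraMap R R' f ^ k * r') =
          algebraMap R' _ (algebraMap R R' f ^ (n + k) * x - algebraMap R R' f ^ n * algebraMap R R' b) := by
        simp only [map_mul, map_sub, map_pow, pow_add] at hb ht ⊢
        rw [← hxy] at ht
        linear_combination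
          -(algebraMap R' (Localization.Away (algebraMap R R' f)) (algebraMap R R' f) ^ k) * ht -
          (algebraMap R' (Localization.Away (algebraMap R R' f)) (algebraMap R R' f) ^ n) * hb
      obtain ⟨⟨_, j, rfl⟩, hj⟩ := (IsLocalization.eq_iff_exists (Submonoid.powers (algebraMap R R' f)) _).1 h1
      refine ⟨a ⊗ₜ x, a * algebraMap R A b, k, ?_⟩
      refine (IsLocalization.eq_iff_exists (Submonoid.powers (algebraMap A T g)) _).2
        ⟨⟨algebraMap A T g ^ j, j, rfl⟩, ?_⟩
      have hj' := congrArg (fun r => a ⊗ₜ[R] r) hj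
      simp only at hj' ⊢
      have hg : ∀ m : ℕ, algebraMap A T g ^ m = (1 : A) ⊗ₜ[R] (algebraMap R R' f ^ m) := fun m => by
        rw [← map_pow (algebraMap A T), ← map_pow (algebraMap R R')]; exact algebraMap_tensor_eq A m
      have hb' : algebraMap A T (a * algebraMap R A b) = a ⊗ₜ[R] algebraMap R R' b := by
        rw [Algebra.TensorProduct.algebraMap_apply, Algebra.algebraMap_self, RingHom.id_apply,
          Algebra.algebraMap_eq_smul_one, Algebra.algebraMap_eq_smul_one, mul_smul_comm, mul_one, smul_tmul]
      have hm : ∀ (u v : R'), ((1 : A) ⊗ₜ[R] u : T) * (a ⊗ₜ[R] v : T) = (a ⊗ₜ[R] (u * v) : T) := fun u v =>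
        (Algebra.TensorProduct.tmul_mul_tmul 1 a u v).trans (by rw [one_mul])
      rw [hg, hg, hg, hg, hb', hm, hm, hm, hm, mul_sub, hm, hm]
      rw [mul_sub, tmul_sub] at hj'
      exact hj'

end Groth.Agent.GluePairLib
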