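import Groth.Agent.GluePairLib.T1
import Groth.Prelude.Def_EtGlue

universe u

open TensorProduct

namespace Groth.Agent.GluePairLib

variable {R R' : Type u} [CommRing R] [CommRing R'] [Algebra R R'] {f : R}

/-- The map `R_f → R'_f` as a linear map. -/
noncomputable def awayLin (R R' : Type u) [CommRing R] [CommRing R'] [Algebra R R'] (f : R) :
    Localization.Away f →ₗ[R] Localization.Away (algebraMap R R' f) where
  toFun := Localization.awayMap (algebraMap R R') f
  map_add' := map_add _
  map_smul' r a := by
    have h : Localization.awayMap (algebraMap R R') f (algebraMap R (Localization.Away f) r) =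
        algebraMap R' (Localization.Away (algebraMap R R' f)) (algebraMap R R' r) := IsLocalization.map_eq _ r
    simp only [RingHom.id_apply, Algebra.smul_def, map_mul, h,
      IsScalarTower.algebraMap_apply R R' (Localization.Away (algebraMap R R' f))]

lemma awayLin_algebraMap (r : R) : awayLin R R' f (algebraMap R _ r) =
    algebraMap R' (Localization.Away (algebraMap R R' f)) (algebraMap R R' r) := by
  show Localization.awayMap (algebraMap R R') f (algebraMap R (Localization.Away f) r) = _
  exact IsLocalization.map_eq _ r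

/-- `R → R' × R_f`. -/
noncomputable def iota (R R' : Type u) [CommRing R] [CommRing R'] [Algebra R R'] (f : R) :
    R →ₗ[R] R' × Localization.Away f :=
  (Algebra.linearMap R R').prod (Algebra.linearMap R (Localization.Away f))

/-- `R' × R_f → R'_f`. -/
noncomputable def diff (R R' : Type u) [CommRing R] [CommRing R'] [Algebra R R'] (f : R) :
    R' × Localization.Away f →ₗ[R] Localization.Away (algebraMap R R' f) :=
  (IsScalarTower.toAlgHom R R' (Localization.Away (algebraMap R R' f))).toLinearMap ∘ₗ
      LinearMap.fst R R' (Localization.Away f) -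
    awayLin R R' f ∘ₗ LinearMap.snd R R' (Localization.Away f)

lemma diff_apply (x : R') (y : Localization.Away f) :
    diff R R' f (x, y) = algebraMap R' _ x - Localization.awayMap (algebraMap R R') f y := rfl

lemma diff_surjective (h : EtGlue.IsGlueingPair R R' f) : Function.Surjective (diff R R' f) := fun z => by
  obtain ⟨x, y, hxy⟩ := h.2.2.2 z
  exact ⟨(x, y), hxy⟩

lemma iota_injective (h : EtGlue.IsGlueingPair R R' f) : Function.Injective (iota R R' f) := h.2.1

lemma iota_diff_exact (h : EtGlue.IsGlueingPair R R' f) : Function.Exact (iota R R' f) (diff R R' f) := by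
  rintro ⟨x, y⟩
  constructor
  · intro h0
    rw [diff_apply, sub_eq_zero] at h0
    obtain ⟨r, hr1, hr2⟩ := h.2.2.1 x y h0
    exact ⟨r, Prod.ext hr1 hr2⟩
  · rintro ⟨r, hr⟩
    rw [← hr]
    show diff R R' f (algebraMap R R' r, algebraMap R _ r) = 0
    rw [diff_apply]
    exact sub_eq_zero.2 (awayLin_algebraMap r).symm

lemma exists_sub_mem_span (hq : EtGlue.QuotPowBijective R R' f) {n : ℕ} (hn : 0 < n) (r' : R') :
    ∃ r : R, ∃ s : R', r' = algebraMap R R' r + algebraMap R R' (f ^ n) * s := by
  obtain ⟨c, hc⟩ := (hq n hn).2 (Ideal.Quotient.mk _ r')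
  obtain ⟨r, rfl⟩ := Ideal.Quotient.mk_surjective c
  rw [Ideal.quotientMap_mk] at hc
  have hd := Ideal.Quotient.eq.1 hc.symm
  rw [Ideal.map_span, Set.image_singleton, Ideal.mem_span_singleton'] at hd
  obtain ⟨s, hs⟩ := hd
  exact ⟨r, s, by rw [mul_comm, hs]; ring⟩

lemma exists_eq_mul (hq : EtGlue.QuotPowBijective R R' f) {n : ℕ} (hn : 0 < n) {r : R} {s : R'}
    (h : algebraMap R R' r = algebraMap R R' (f ^ n) * s) : ∃ c : R, r = f ^ n * c := by
  have h0 : Ideal.Quotient.mk (Ideal.span {f ^ n}) r = 0 := by
    apply (hq n hn).1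
    rw [map_zero, Ideal.quotientMap_mk, Ideal.Quotient.eq_zero_iff_mem, h, Ideal.map_span, Set.image_singleton]
    exact Ideal.mem_span_singleton'.2 ⟨s, mul_comm _ _⟩
  rw [Ideal.Quotient.eq_zero_iff_mem, Ideal.mem_span_singleton'] at h0
  obtain ⟨c, hc⟩ := h0
  exact ⟨c, by rw [← hc, mul_comm]⟩

section torsion

variable (hq : EtGlue.QuotPowBijective R R' f) {P : Type u} [AddCommGroup P] [Module R P]
include hq

/-- For an `f`-power torsion module `P`, `P → R' ⊗ P` is bijective. -/
lemma bijective_one_tmul (hP : ∀ m : P, ∃ n : ℕ, f ^ n • m = 0) :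
    Function.Bijective (fun m : P => ((1 : R') ⊗ₜ[R] m : R' ⊗[R] P)) := by
  have hP' : ∀ m : P, ∃ n : ℕ, f ^ (n + 1) • m = 0 := fun m => by
    obtain ⟨n, hn⟩ := hP m
    exact ⟨n, by rw [pow_succ', mul_smul, hn, smul_zero]⟩
  choose nn hnn using hP'
  choose rr ss hrs using fun (k : ℕ) (r' : R') => exists_sub_mem_span hq (n := k + 1) (Nat.succ_pos k) r'
  have key : ∀ (r' : R') (m : P) (n : ℕ) (r : R) (s : R'), f ^ (n + 1) • m = 0 →
      r' = algebraMap R R' r + algebraMap R R' (f ^ (n + 1)) * s → rr (nn m) r' • m = r • m := by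
    intro r' m n r s hm he
    rcases Nat.le_total n (nn m) with h | h
    · obtain ⟨j, hj⟩ : ∃ j, nn m + 1 = n + 1 + j := ⟨nn m - n, by omega⟩
      have h2 : algebraMap R R' (rr (nn m) r' - r) = algebraMap R R' (f ^ (n + 1)) *
          (s - algebraMap R R' (f ^ j) * ss (nn m) r') := by
        have h3 := hrs (nn m) r'
        rw [hj, pow_add, map_mul] at h3
        rw [map_sub]
        linear_combination he - h3
      obtain ⟨c, hc⟩ := exists_eq_mul hq (Nat.succ_pos n) h2
      rw [← sub_eq_zero, ← sub_smul, hc, mul_comm, mul_smul, hm, smul_zero]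
    · obtain ⟨j, hj⟩ : ∃ j, n + 1 = nn m + 1 + j := ⟨n - nn m, by omega⟩
      have h2 : algebraMap R R' (rr (nn m) r' - r) = algebraMap R R' (f ^ (nn m + 1)) *
          (algebraMap R R' (f ^ j) * s - ss (nn m) r') := by
        have h3 := hrs (nn m) r'
        rw [hj, pow_add, map_mul] at he
        rw [map_sub]
        linear_combination he - h3
      obtain ⟨c, hc⟩ := exists_eq_mul hq (Nat.succ_pos _) h2
      rw [← sub_eq_zero, ← sub_smul, hc, mul_comm, mul_smul, hnn, smul_zero]
  let act : R' →ₗ[R] P →ₗ[R] P := LinearMap.mk₂ R (fun r' m => rr (nn m) r' • m)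
    (fun a b m => by
      rw [← add_smul]
      refine key _ m (nn m) _ (ss (nn m) a + ss (nn m) b) (hnn m) ?_
      have h1 := hrs (nn m) a
      have h2 := hrs (nn m) b
      rw [map_add]
      linear_combination h1 + h2)
    (fun c a m => by
      rw [smul_smul]
      refine key _ m (nn m) _ (algebraMap R R' c * ss (nn m) a) (hnn m) ?_
      have h1 := hrs (nn m) a
      rw [Algebra.smul_def, map_mul]
      linear_combination algebraMap R R' c * h1)
    (fun a m m' => by
      let N := nn m + nn m' + 1
      have hle : ∀ x : P, nn x + 1 ≤ N + 1 → f ^ (N + 1) • x = 0 := fun x hx => by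
        obtain ⟨j, hj⟩ := Nat.le.dest hx
        rw [← hj, pow_add, mul_comm, mul_smul, hnn, smul_zero]
      have hm := hle m (by omega)
      have hm' := hle m' (by omega)
      rw [key a m N _ _ hm (hrs N a), key a m' N _ _ hm' (hrs N a),
        key a (m + m') N _ _ (by rw [smul_add, hm, hm', add_zero]) (hrs N a), smul_add])
    (fun c a m => by
      rw [key a (c • m) (nn m) _ _ (by rw [smul_comm, hnn, smul_zero]) (hrs (nn m) a), smul_comm])
  let ψ : R' ⊗[R] P →ₗ[R] P := TensorProduct.lift act
  have hψ : ∀ m : P, ψ ((1 : R') ⊗ₜ m) = m := fun m => by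
    show rr (nn m) 1 • m = m
    rw [key 1 m (nn m) 1 0 (hnn m) (by simp), one_smul]
  refine ⟨fun a b h => by simpa [hψ] using congrArg ψ h, fun x => ?_⟩
  induction x using TensorProduct.induction_on with
  | zero => exact ⟨0, tmul_zero _ _⟩
  | tmul r' m =>
    refine ⟨rr (nn m) r' • m, ?_⟩
    conv_rhs => rw [hrs (nn m) r', add_tmul, ← Algebra.smul_def, smul_tmul, hnn, tmul_zero, add_zero]
    show (1 : R') ⊗ₜ[R] (rr (nn m) r' • m) = _
    rw [← smul_tmul, Algebra.smul_def, mul_one]
  | add a b ha hb =>
    obtain ⟨p, rfl⟩ := ha; obtain ⟨q, rfl⟩ := hb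
    exact ⟨p + q, tmul_add _ _ _⟩

lemma subsingleton_of_torsion (hP : ∀ m : P, ∃ n : ℕ, f ^ n • m = 0) [Subsingleton (R' ⊗[R] P)] :
    Subsingleton P :=
  (bijective_one_tmul hq hP).1.subsingleton

end torsion

lemma subsingleton_of_quot (hq : EtGlue.QuotPowBijective R R' f) (Q : Type u) [AddCommGroup Q] [Module R Q]
    [Subsingleton (R' ⊗[R] Q)] [Subsingleton (Localization.Away f ⊗[R] Q)] : Subsingleton Q := by
  refine subsingleton_of_torsion hq fun m => ?_
  obtain ⟨⟨_, n, rfl⟩, hn⟩ := (IsLocalizedModule.eq_zero_iff (Submonoid.powers f)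
    (TensorProduct.mk R (Localization.Away f) Q 1)).1 (Subsingleton.elim _ 0 :
      TensorProduct.mk R (Localization.Away f) Q 1 m = 0)
  exact ⟨n, hn⟩

section flat

variable (h : EtGlue.IsGlueingPair R R' f) (M : Type u) [AddCommGroup M] [Module R M]
  [Module.Flat R' (R' ⊗[R] M)] [Module.Flat (Localization.Away f) (Localization.Away f ⊗[R] M)]

lemma t1_away (P : Type u) [AddCommGroup P] [Module R P] [Module (Localization.Away f) P]
    [IsScalarTower R (Localization.Away f) P] : T1 (R := R) M P :=
  haveI : Module.Flat R (Localization.Away f) := IsLocalization.flat _ (Submonoid.powers f)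
  t1_module_of_flat (S := Localization.Away f) P

/-- Modules over `R'_f` are `T1`. -/
lemma t1_away' (P : Type u) [AddCommGroup P] [Module R P] [Module (Localization.Away (algebraMap R R' f)) P]
    [IsScalarTower R (Localization.Away (algebraMap R R' f)) P] : T1 (R := R) M P := by
  letI : Module (Localization.Away f) P := Module.compHom P (Localization.awayMap (algebraMap R R') f)
  haveI : IsScalarTower R (Localization.Away f) P := IsScalarTower.of_algebraMap_smul fun r p => by
    show Localization.awayMap (algebraMap R R') f (algebraMap R _ r) • p = r • p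
    rw [show Localization.awayMap (algebraMap R R') f (algebraMap R (Localization.Away f) r) =
      algebraMap R' (Localization.Away (algebraMap R R' f)) (algebraMap R R' r) from awayLin_algebraMap r,
      ← IsScalarTower.algebraMap_apply R R', algebraMap_smul]
  exact t1_away (f := f) M P

include h in
lemma t1_base (P : Type u) [AddCommGroup P] [Module R P] [Module R' P] [IsScalarTower R R' P] :
    T1 (R := R) M P := by
  refine t1_module (S := R') (fun V _ _ _ => ?_) P
  haveI : Module.Flat R V := inferInstance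
  let A := Localization.Away f
  let A' := Localization.Away (algebraMap R R' f)
  have hinj : Function.Injective ((iota R R' f).rTensor V) :=
    Module.Flat.rTensor_preserves_injective_linearMap _ (iota_injective h)
  have hex := rTensor_exact V (iota_diff_exact h) (diff_surjective h)
  have hs := LinearMap.rTensor_surjective V (g := diff R R' f) (diff_surjective h)
  haveI : Module.Flat R (R ⊗[R] V) := Module.Flat.of_linearEquiv (TensorProduct.lid R V)
  have h1 := t1_extension (M := M) _ _ hinj hex hs (t1_of_flat _) (t1_away' (R' := R') (f := f) M (A' ⊗[R] V))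
  exact t1_fst (t1_of_equiv (TensorProduct.prodLeft R R R' A V) h1)

include h in
theorem flat : Module.Flat R M := by
  haveI : Module.Flat R (Localization.Away f) := IsLocalization.flat _ (Submonoid.powers f)
  rw [Module.Flat.iff_rTensor_injective']
  intro J
  let A := Localization.Away f
  let A' := Localization.Away (algebraMap R R' f)
  let J1 : Ideal R' := J.map (algebraMap R R')
  let J2 : Ideal A := J.map (algebraMap R A)
  let J3 : Ideal A' := J.map (algebraMap R A')
  let W : Submodule R (R' × A) := (J1.restrictScalars R).prod (J2.restrictScalars R)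
  let G : Submodule R R := W.comap (iota R R' f)
  have hJG : (J : Submodule R R) ≤ G := fun j hj =>
    ⟨Ideal.mem_map_of_mem _ hj, Ideal.mem_map_of_mem _ hj⟩
  let i1 : J →ₗ[R] G := Submodule.inclusion hJG
  let i2 : G →ₗ[R] W := (iota R R' f ∘ₗ G.subtype).codRestrict W fun g => g.2
  have hd : ∀ w : W, diff R R' f w ∈ J3.restrictScalars R := by
    rintro ⟨⟨x, y⟩, hx, hy⟩
    show diff R R' f (x, y) ∈ J3
    rw [diff_apply]
    refine sub_mem ?_ ?_
    · have : J1.map (algebraMap R' A') = J3 := by
        rw [Ideal.map_map, ← IsScalarTower.algebraMap_eq]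
      exact this ▸ Ideal.mem_map_of_mem _ hx
    · have : J2.map (Localization.awayMap (algebraMap R R') f) = J3 := by
        rw [Ideal.map_map]
        congr 1
        ext r
        rw [RingHom.comp_apply, IsScalarTower.algebraMap_apply R R' A']
        exact awayLin_algebraMap r
      exact this ▸ Ideal.mem_map_of_mem _ hy
  let d : W →ₗ[R] J3.restrictScalars R := (diff R R' f ∘ₗ W.subtype).codRestrict _ hd
  have hi2 : Function.Injective i2 := fun a b hab =>
    Subtype.ext (iota_injective h (congrArg Subtype.val hab))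
  have hex : Function.Exact i2 d := by
    intro w
    constructor
    · intro hw
      obtain ⟨r, hr⟩ := (iota_diff_exact h w.1).1 (congrArg Subtype.val hw)
      exact ⟨⟨r, show iota R R' f r ∈ W by rw [hr]; exact w.2⟩, Subtype.ext hr⟩
    · rintro ⟨g, rfl⟩
      exact Subtype.ext ((iota_diff_exact h _).2 ⟨g.1, rfl⟩)
  have hds : Function.Surjective d := by
    rintro ⟨z, hz⟩
    change z ∈ J3 at hz
    suffices ∃ w : W, diff R R' f (w : R' × A) = z by
      obtain ⟨w, hw⟩ := this; exact ⟨w, Subtype.ext hw⟩
    induction hz using Submodule.span_induction with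
    | mem x hx =>
      obtain ⟨j, hj, rfl⟩ := hx
      obtain ⟨w, hw⟩ := diff_surjective h 1
      refine ⟨⟨j • w, ?_, ?_⟩, ?_⟩
      · show j • w.1 ∈ J1
        rw [Algebra.smul_def]; exact Ideal.mul_mem_right _ _ (Ideal.mem_map_of_mem _ hj)
      · show j • w.2 ∈ J2
        rw [Algebra.smul_def]; exact Ideal.mul_mem_right _ _ (Ideal.mem_map_of_mem _ hj)
      · rw [map_smul, hw, Algebra.smul_def, mul_one]
    | zero => exact ⟨0, map_zero _⟩
    | add u v _ _ hu hv =>
      obtain ⟨a, rfl⟩ := hu; obtain ⟨b, rfl⟩ := hv; exact ⟨a + b, map_add _ _ _⟩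
    | smul c u hu' ih =>
      clear ih
      rw [smul_eq_mul]
      induction hu' using Submodule.span_induction generalizing c with
      | mem x hx =>
        obtain ⟨j, hj, rfl⟩ := hx
        obtain ⟨w, hw⟩ := diff_surjective h c
        refine ⟨⟨j • w, ?_, ?_⟩, ?_⟩
        · show j • w.1 ∈ J1
          rw [Algebra.smul_def]; exact Ideal.mul_mem_right _ _ (Ideal.mem_map_of_mem _ hj)
        · show j • w.2 ∈ J2
          rw [Algebra.smul_def]; exact Ideal.mul_mem_right _ _ (Ideal.mem_map_of_mem _ hj)
        · rw [map_smul, hw, Algebra.smul_def, mul_comm]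
      | zero => exact ⟨0, by simp⟩
      | add u v _ _ hu hv =>
        obtain ⟨a, ha⟩ := hu c; obtain ⟨b, hb⟩ := hv c
        exact ⟨a + b, by rw [Submodule.coe_add, map_add, ha, hb, mul_add]⟩
      | smul e u _ hu =>
        rw [smul_eq_mul, ← mul_assoc]; exact hu _
  have h2 : Function.Injective (i2.rTensor M) := by
    haveI : IsScalarTower R A' ↥(J3.restrictScalars R) :=
      IsScalarTower.of_algebraMap_smul fun r p => Subtype.ext (algebraMap_smul A' r (p : A'))
    exact t1_away' (R' := R') (f := f) M _ _ _ i2 d hi2 hex hds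
  have h3 : Function.Injective (W.subtype.rTensor M) := by
    let eW : W ≃ₗ[R] ↥(J1.restrictScalars R) × ↥(J2.restrictScalars R) :=
      { toLinearMap := ((LinearMap.fst R R' A ∘ₗ W.subtype).codRestrict (J1.restrictScalars R) (fun w => w.2.1)).prod
          ((LinearMap.snd R R' A ∘ₗ W.subtype).codRestrict (J2.restrictScalars R) (fun w => w.2.2))
        invFun := fun p => ⟨(p.1.1, p.2.1), p.1.2, p.2.2⟩
        left_inv := fun _ => rfl
        right_inv := fun _ => rfl }
    have hp1 : Function.Injective (((J1.restrictScalars R).subtype).rTensor M) :=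
      (t1_base h M (R' ⧸ J1)) _ _ _ ((Submodule.mkQ J1).restrictScalars R) Subtype.val_injective
        (fun x => by simp [Ideal.Quotient.eq_zero_iff_mem]) (Submodule.mkQ_surjective J1)
    have hp2 : Function.Injective (((J2.restrictScalars R).subtype).rTensor M) :=
      (t1_away (f := f) M (A ⧸ J2)) _ _ _ ((Submodule.mkQ J2).restrictScalars R) Subtype.val_injective
        (fun x => by simp [Ideal.Quotient.eq_zero_iff_mem]) (Submodule.mkQ_surjective J2)
    have key : ∀ x, TensorProduct.prodLeft R R R' A M (W.subtype.rTensor M x) =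
        Prod.map ((J1.restrictScalars R).subtype.rTensor M) ((J2.restrictScalars R).subtype.rTensor M)
          (TensorProduct.prodLeft R R _ _ M (LinearEquiv.rTensor M eW x)) := by
      intro x
      induction x using TensorProduct.induction_on with
      | zero => simp [Prod.map, Prod.ext_iff]
      | tmul w m => obtain ⟨⟨x, y⟩, hw⟩ := w; simp [eW, Prod.map]
      | add a b ha hb => simp [ha, hb, Prod.map]
    intro a b hab
    have := congrArg (TensorProduct.prodLeft R R R' A M) hab
    rw [key, key] at this
    exact (LinearEquiv.rTensor M eW).injective ((TensorProduct.prodLeft R R _ _ M).injective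
      (Prod.map_injective.2 ⟨hp1, hp2⟩ this))
  have h1 : Function.Injective (i1.rTensor M) := by
    let Jq : Submodule R G := LinearMap.range i1
    have hex1 : Function.Exact i1 Jq.mkQ := fun x => (Submodule.Quotient.mk_eq_zero Jq).trans Iff.rfl
    have htor : ∀ q : G ⧸ Jq, ∃ n : ℕ, f ^ n • q = 0 := by
      intro q
      obtain ⟨⟨g, hg1, hg2⟩, rfl⟩ := Submodule.mkQ_surjective Jq q
      obtain ⟨⟨⟨j, hj⟩, ⟨_, k, rfl⟩⟩, hjk⟩ :=
        (IsLocalization.mem_map_algebraMap_iff (Submonoid.powers f) A).1 (show algebraMap R A g ∈ J2 from hg2)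
      simp only [← map_mul] at hjk
      obtain ⟨⟨_, m, rfl⟩, hm⟩ := (IsLocalization.eq_iff_exists (Submonoid.powers f) A).1 hjk
      refine ⟨m + k, (Submodule.Quotient.mk_eq_zero Jq).2 ⟨⟨f ^ m * j, J.mul_mem_left _ hj⟩, Subtype.ext ?_⟩⟩
      show f ^ m * j = f ^ (m + k) * g
      rw [← hm, pow_add]; ring
    let e := LinearEquiv.ofBijective (TensorProduct.mk R R' (G ⧸ Jq) 1) (bijective_one_tmul h.1 htor)
    exact t1_of_equiv e.symm (t1_base h M (R' ⊗[R] (G ⧸ Jq))) _ _ i1 Jq.mkQ (Submodule.inclusion_injective hJG)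
      hex1 Jq.mkQ_surjective
  intro a b hab
  apply h1
  apply h2
  apply h3
  have hcomp : W.subtype ∘ₗ i2 ∘ₗ i1 = iota R R' f ∘ₗ J.subtype := rfl
  rw [← LinearMap.rTensor_comp_apply, ← LinearMap.rTensor_comp_apply, ← LinearMap.rTensor_comp_apply,
    ← LinearMap.rTensor_comp_apply, LinearMap.comp_assoc, hcomp, LinearMap.rTensor_comp_apply,
    LinearMap.rTensor_comp_apply, hab]

end flat

end Groth.Agent.GluePairLib
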