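import Mathlib

/-!
# Points of quasi-affine schemes and glueing pairs
-/

set_option autoImplicit false
set_option linter.style.haveILetI false

universe u

open CategoryTheory AlgebraicGeometry

namespace Groth.Agent.GluePairLib

variable {A A' : Type u} [CommRing A] [CommRing A'] (φ : A →+* A') (t : A)

theorem eq_of_maps
    (htor : ∀ a' : A', (∃ m : ℕ, φ t ^ m * a' = 0) → ∃! a : A, (∃ m : ℕ, t ^ m * a = 0) ∧ φ a = a')
    {a b : A} (h1 : φ a = φ b) (h2 : algebraMap A (Localization.Away t) a = algebraMap A (Localization.Away t) b) :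
    a = b := by
  obtain ⟨⟨_, n, rfl⟩, hn⟩ := (IsLocalization.eq_iff_exists (Submonoid.powers t) (Localization.Away t)).1 h2
  have h0 := htor 0 ⟨0, by simp⟩
  refine sub_eq_zero.1 (h0.unique ⟨⟨n, ?_⟩, by rw [map_sub, h1, sub_self]⟩ ⟨⟨0, by simp⟩, map_zero φ⟩)
  simp only at hn
  rw [mul_sub, hn, sub_self]

theorem exists_of_compat
    (hq : ∀ m : ℕ, Function.Bijective (Ideal.quotientMap (Ideal.map φ (Ideal.span {t} ^ m)) φ Ideal.le_comap_map))
    (htor : ∀ a' : A', (∃ m : ℕ, φ t ^ m * a' = 0) → ∃! a : A, (∃ m : ℕ, t ^ m * a = 0) ∧ φ a = a')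
    (a' : A') (y : Localization.Away t)
    (h : algebraMap A' (Localization.Away (φ t)) a' = Localization.awayMap φ t y) :
    ∃ x : A, φ x = a' ∧ algebraMap A (Localization.Away t) x = y := by
  obtain ⟨⟨a, ⟨_, n, rfl⟩⟩, hy⟩ := IsLocalization.surj (Submonoid.powers t) y
  simp only at hy
  have h2 : algebraMap A' (Localization.Away (φ t)) (a' * φ t ^ n) = algebraMap A' (Localization.Away (φ t)) (φ a) := by
    have e1 : ∀ b : A, Localization.awayMap φ t (algebraMap A _ b) = algebraMap A' _ (φ b) := fun b =>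
      IsLocalization.map_eq _ b
    rw [← e1 a, ← hy, map_mul (Localization.awayMap φ t), e1, map_mul, h, ← map_pow φ]
  obtain ⟨⟨_, N, rfl⟩, hN⟩ := (IsLocalization.eq_iff_exists (Submonoid.powers (φ t)) (Localization.Away (φ t))).1 h2
  simp only at hN
  let M := N + n
  have hd : φ (t ^ N * a) = φ t ^ M * a' := by
    rw [map_mul, map_pow, pow_add, ← hN]
    ring
  have hmem : t ^ N * a ∈ Ideal.span {t} ^ M := by
    rw [← Ideal.Quotient.eq_zero_iff_mem]
    apply (hq M).1
    rw [map_zero, Ideal.quotientMap_mk, Ideal.Quotient.eq_zero_iff_mem, hd, Ideal.map_pow, Ideal.map_span,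
      Set.image_singleton, Ideal.span_singleton_pow]
    exact Ideal.mem_span_singleton.2 ⟨a', rfl⟩
  rw [Ideal.span_singleton_pow, Ideal.mem_span_singleton] at hmem
  obtain ⟨e, he⟩ := hmem
  have hkill : φ t ^ M * (a' - φ e) = 0 := by
    rw [mul_sub, ← hd, he, map_mul, map_pow, sub_self]
  obtain ⟨τ, ⟨⟨k, hk⟩, hτ⟩, -⟩ := htor (a' - φ e) ⟨M, hkill⟩
  refine ⟨e + τ, by rw [map_add, hτ, add_sub_cancel], ?_⟩
  apply (IsLocalization.map_units (Localization.Away t) (⟨t ^ n, n, rfl⟩ : Submonoid.powers t)).mul_left_inj.1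
  rw [hy, ← map_mul]
  refine (IsLocalization.eq_iff_exists (Submonoid.powers t) (Localization.Away t)).2 ⟨⟨t ^ (N + k), N + k, rfl⟩, ?_⟩
  show t ^ (N + k) * ((e + τ) * t ^ n) = t ^ (N + k) * a
  calc t ^ (N + k) * ((e + τ) * t ^ n) = t ^ k * (t ^ M * e) + t ^ (N + n) * (t ^ k * τ) := by ring
    _ = t ^ (N + k) * a := by rw [hk, ← he]; ring

theorem mem_range_of_comp {Y Z W V : Scheme.{u}} {f : Y ⟶ Z} {g : Z ⟶ W} {h : Y ⟶ V} {j : V ⟶ W}
    (e : f ≫ g = h ≫ j) (y : Y) (z : Z) (hz : f y = z) : g z ∈ Set.range j := by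
  subst hz
  exact ⟨h y, by rw [← Scheme.Hom.comp_apply, ← e, Scheme.Hom.comp_apply]⟩

theorem exists_prime_over
    (hq : ∀ m : ℕ, Function.Bijective (Ideal.quotientMap (Ideal.map φ (Ideal.span {t} ^ m)) φ Ideal.le_comap_map))
    (P : PrimeSpectrum A) :
    (∃ P' : PrimeSpectrum A', PrimeSpectrum.comap φ P' = P) ∨
      ∃ Q : PrimeSpectrum (Localization.Away t), PrimeSpectrum.comap (algebraMap A _) Q = P := by
  by_cases htP : t ∈ P.asIdeal
  · left
    let J := Ideal.map φ (Ideal.span {t} ^ 1)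
    let e := RingEquiv.ofBijective _ (hq 1)
    have hle : Ideal.span {t} ^ 1 ≤ P.asIdeal := by
      rw [pow_one, Ideal.span_le, Set.singleton_subset_iff]; exact htP
    haveI := P.isPrime
    haveI : (P.asIdeal.map (Ideal.Quotient.mk (Ideal.span {t} ^ 1))).IsPrime :=
      Ideal.map_isPrime_of_surjective Ideal.Quotient.mk_surjective (by rw [Ideal.mk_ker]; exact hle)
    let Q : PrimeSpectrum (A ⧸ Ideal.span {t} ^ 1) := ⟨_, this⟩
    refine ⟨PrimeSpectrum.comap ((e.symm.toRingHom).comp (Ideal.Quotient.mk J)) Q, ?_⟩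
    rw [← PrimeSpectrum.comap_comp_apply]
    have hcomp : ((e.symm.toRingHom).comp (Ideal.Quotient.mk J)).comp φ = Ideal.Quotient.mk _ :=
      RingHom.ext fun a => e.symm_apply_eq.2 (show Ideal.Quotient.mk J (φ a) = _ from (Ideal.quotientMap_mk (I := J) (J := Ideal.span {t} ^ 1) (f := φ) (H := Ideal.le_comap_map) (x := a)).symm)
    rw [hcomp]
    apply PrimeSpectrum.ext
    show Ideal.comap _ (Ideal.map _ _) = _
    rw [Ideal.comap_map_of_surjective _ Ideal.Quotient.mk_surjective, ← RingHom.ker_eq_comap_bot, Ideal.mk_ker,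
      sup_eq_left.2 hle]
  · right
    exact (PrimeSpectrum.localization_away_comap_range (Localization.Away t) t).ge htP

theorem main
    (hq : ∀ m : ℕ, Function.Bijective (Ideal.quotientMap (Ideal.map φ (Ideal.span {t} ^ m)) φ Ideal.le_comap_map))
    (htor : ∀ a' : A', (∃ m : ℕ, φ t ^ m * a' = 0) → ∃! a : A, (∃ m : ℕ, t ^ m * a = 0) ∧ φ a = a')
    (X : Scheme.{u}) [X.IsQuasiAffine] (p : X ⟶ Spec (CommRingCat.of A)) :
    (∀ s₁ s₂ : Spec (CommRingCat.of A) ⟶ X,
        Spec.map (CommRingCat.ofHom φ) ≫ s₁ = Spec.map (CommRingCat.ofHom φ) ≫ s₂ →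
        Spec.map (CommRingCat.ofHom (algebraMap A (Localization.Away t))) ≫ s₁ =
          Spec.map (CommRingCat.ofHom (algebraMap A (Localization.Away t))) ≫ s₂ →
        s₁ = s₂) ∧
    (∀ (x' : Spec (CommRingCat.of A') ⟶ X) (xt : Spec (CommRingCat.of (Localization.Away t)) ⟶ X),
        x' ≫ p = Spec.map (CommRingCat.ofHom φ) →
        xt ≫ p = Spec.map (CommRingCat.ofHom (algebraMap A (Localization.Away t))) →
        Spec.map (CommRingCat.ofHom (algebraMap A' (Localization.Away (φ t)))) ≫ x' =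
          Spec.map (CommRingCat.ofHom (Localization.awayMap φ t)) ≫ xt →
        ∃ s : Spec (CommRingCat.of A) ⟶ X, s ≫ p = 𝟙 _ ∧
          Spec.map (CommRingCat.ofHom φ) ≫ s = x' ∧
          Spec.map (CommRingCat.ofHom (algebraMap A (Localization.Away t))) ≫ s = xt) := by
  classical
  have uniq : ∀ {R : CommRingCat.{u}} (g₁ g₂ : Spec (CommRingCat.of A) ⟶ Spec R),
      Spec.map (CommRingCat.ofHom φ) ≫ g₁ = Spec.map (CommRingCat.ofHom φ) ≫ g₂ →
      Spec.map (CommRingCat.ofHom (algebraMap A (Localization.Away t))) ≫ g₁ =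
        Spec.map (CommRingCat.ofHom (algebraMap A (Localization.Away t))) ≫ g₂ → g₁ = g₂ := by
    intro R g₁ g₂ e1 e2
    obtain ⟨v₁, rfl⟩ := Spec.map_surjective g₁
    obtain ⟨v₂, rfl⟩ := Spec.map_surjective g₂
    rw [← Spec.map_comp, ← Spec.map_comp] at e1 e2
    have f1 := Spec.map_injective e1
    have f2 := Spec.map_injective e2
    refine congrArg Spec.map ?_
    ext r
    exact eq_of_maps φ t htor (ConcreteCategory.congr_hom f1 r) (ConcreteCategory.congr_hom f2 r)
  refine ⟨fun s₁ s₂ e1 e2 => ?_, fun x' xt hx' hxt hc => ?_⟩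
  · rw [← cancel_mono X.toSpecΓ]
    exact uniq _ _ (by simp only [← Category.assoc, e1]) (by simp only [← Category.assoc, e2])
  obtain ⟨u', hu'⟩ := Spec.map_surjective (x' ≫ X.toSpecΓ)
  obtain ⟨ut, hut⟩ := Spec.map_surjective (xt ≫ X.toSpecΓ)
  have hcr : ∀ r, algebraMap A' (Localization.Away (φ t)) (u' r) = Localization.awayMap φ t (ut r) := fun r => by
    have h := congrArg (· ≫ X.toSpecΓ) hc
    simp only [Category.assoc, ← hu', ← hut, ← Spec.map_comp] at h
    exact ConcreteCategory.congr_hom (Spec.map_injective h) r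
  choose v hv hv' using fun r => exists_of_compat φ t hq htor (u' r) (ut r) (hcr r)
  let u : Γ(X, ⊤) ⟶ CommRingCat.of A := CommRingCat.ofHom
    { toFun := v
      map_one' := eq_of_maps φ t htor (by rw [hv, map_one, map_one]) (by rw [hv', map_one, map_one])
      map_mul' := fun a b => eq_of_maps φ t htor (by rw [hv, map_mul, map_mul, hv, hv]) (by rw [hv', map_mul, map_mul, hv', hv'])
      map_zero' := eq_of_maps φ t htor (by rw [hv, map_zero, map_zero]) (by rw [hv', map_zero, map_zero])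
      map_add' := fun a b => eq_of_maps φ t htor (by rw [hv, map_add, map_add, hv, hv]) (by rw [hv', map_add, map_add, hv', hv']) }
  have k1 : Spec.map (CommRingCat.ofHom φ) ≫ Spec.map u = x' ≫ X.toSpecΓ := by
    rw [← hu', ← Spec.map_comp]
    congr 1
    ext r
    exact hv r
  have k2 : Spec.map (CommRingCat.ofHom (algebraMap A (Localization.Away t))) ≫ Spec.map u = xt ≫ X.toSpecΓ := by
    rw [← hut, ← Spec.map_comp]
    congr 1
    ext r
    exact hv' r
  have hrange : Set.range (Spec.map u) ⊆ Set.range X.toSpecΓ := by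
    rintro _ ⟨P, rfl⟩
    rcases exists_prime_over φ t hq P with ⟨P', hP'⟩ | ⟨Q, hQ⟩
    · exact mem_range_of_comp k1 P' P hP'
    · exact mem_range_of_comp k2 Q P hQ
  refine ⟨IsOpenImmersion.lift X.toSpecΓ (Spec.map u) hrange, ?_, ?_, ?_⟩
  · refine uniq _ _ ?_ ?_
    · rw [← Category.assoc, show Spec.map (CommRingCat.ofHom φ) ≫ IsOpenImmersion.lift X.toSpecΓ (Spec.map u) hrange = x' from
        by rw [← cancel_mono X.toSpecΓ, Category.assoc, IsOpenImmersion.lift_fac, k1], hx', Category.comp_id]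
    · rw [← Category.assoc, show Spec.map (CommRingCat.ofHom (algebraMap A (Localization.Away t))) ≫
        IsOpenImmersion.lift X.toSpecΓ (Spec.map u) hrange = xt from
        by rw [← cancel_mono X.toSpecΓ, Category.assoc, IsOpenImmersion.lift_fac, k2], hxt, Category.comp_id]
  · rw [← cancel_mono X.toSpecΓ, Category.assoc, IsOpenImmersion.lift_fac, k1]
  · rw [← cancel_mono X.toSpecΓ, Category.assoc, IsOpenImmersion.lift_fac, k2]

end Groth.Agent.GluePairLib
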