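import Mathlib

universe u

open TensorProduct

namespace Groth.Agent.GluePairLib

variable {R : Type u} [CommRing R]

/-- `Tor₁(P, M) = 0`, phrased with extensions: tensoring any short exact sequence ending in `P`
with `M` is still injective on the left. -/
def T1 (M : Type u) [AddCommGroup M] [Module R M] (P : Type u) [AddCommGroup P] [Module R P] : Prop :=
  ∀ (J G : Type u) [AddCommGroup J] [Module R J] [AddCommGroup G] [Module R G]
    (i : J →ₗ[R] G) (p : G →ₗ[R] P),
    Function.Injective i → Function.Exact i p → Function.Surjective p →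
    Function.Injective (i.rTensor M)

variable {M : Type u} [AddCommGroup M] [Module R M]

lemma t1_of_flat (P : Type u) [AddCommGroup P] [Module R P] [Module.Flat R P] : T1 (R := R) M P := by
  intro J G _ _ _ _ i p hi hex hp
  exact (LinearMap.lTensor_inj_iff_rTensor_inj _ _).1
    (LinearMap.lTensor_injective_of_exact_of_flat p hp i hi hex M)

lemma t1_of_equiv {P Q : Type u} [AddCommGroup P] [Module R P] [AddCommGroup Q] [Module R Q]
    (e : P ≃ₗ[R] Q) (h : T1 (R := R) M P) : T1 (R := R) M Q := by
  intro J G _ _ _ _ i p hi hex hp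
  exact h J G i (e.symm.toLinearMap ∘ₗ p) hi
    (fun x => by
      rw [← hex x]
      simp)
    (e.symm.surjective.comp hp)

lemma t1_extension {A B C : Type u} [AddCommGroup A] [Module R A] [AddCommGroup B] [Module R B]
    [AddCommGroup C] [Module R C] (a : A →ₗ[R] B) (c : B →ₗ[R] C)
    (ha : Function.Injective a) (hac : Function.Exact a c) (hc : Function.Surjective c)
    (hA : T1 (R := R) M A) (hC : T1 (R := R) M C) : T1 (R := R) M B := by
  intro J G _ _ _ _ i p hi hex hp
  let G' : Submodule R G := LinearMap.ker (c ∘ₗ p)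
  let i' : J →ₗ[R] G' := i.codRestrict G' fun j => by
    show c (p (i j)) = 0
    rw [(hex _).2 ⟨j, rfl⟩, map_zero]
  let e := LinearEquiv.ofInjective a ha
  let p' : G' →ₗ[R] A := e.symm.toLinearMap ∘ₗ ((p ∘ₗ G'.subtype).codRestrict (LinearMap.range a)
    fun g => LinearMap.mem_range.2 ((hac _).1 g.2))
  have hp' : ∀ g : G', a (p' g) = p g := fun g => by
    have := e.apply_symm_apply ⟨p g, LinearMap.mem_range.2 ((hac _).1 g.2)⟩
    exact congrArg Subtype.val this
  have h1 : Function.Injective (i'.rTensor M) := by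
    refine hA J G' i' p' (fun x y h => hi (congrArg Subtype.val h)) (fun g => ?_) (fun x => ?_)
    · constructor
      · intro h0
        obtain ⟨j, hj⟩ := (hex g.1).1 (by rw [← hp', h0, map_zero])
        exact ⟨j, Subtype.ext hj⟩
      · rintro ⟨j, rfl⟩
        apply ha
        rw [hp', map_zero]
        exact (hex _).2 ⟨j, rfl⟩
    · obtain ⟨g, hg⟩ := hp (a x)
      have hmem : g ∈ G' := by
        show c (p g) = 0
        rw [hg]; exact (hac _).2 ⟨x, rfl⟩
      exact ⟨⟨g, hmem⟩, ha (by rw [hp']; exact hg)⟩
  have h2 : Function.Injective (G'.subtype.rTensor M) :=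
    hC G' G G'.subtype (c ∘ₗ p) G'.injective_subtype (LinearMap.exact_subtype_ker_map _) (hc.comp hp)
  have : i = G'.subtype ∘ₗ i' := rfl
  rw [this, LinearMap.rTensor_comp]
  exact h2.comp h1

lemma t1_fst {A B : Type u} [AddCommGroup A] [Module R A] [AddCommGroup B] [Module R B]
    (h : T1 (R := R) M (A × B)) : T1 (R := R) M A := by
  intro J G _ _ _ _ i p hi hex hp
  have := h J (G × B) (LinearMap.inl R G B ∘ₗ i) (p.prodMap LinearMap.id)
    (fun x y hxy => hi (congrArg Prod.fst hxy))
    (fun x => by
      constructor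
      · intro hx
        simp only [LinearMap.prodMap_apply, Prod.ext_iff, Prod.fst_zero, Prod.snd_zero, LinearMap.id_coe,
          id_eq] at hx
        obtain ⟨j, hj⟩ := (hex _).1 hx.1
        exact ⟨j, Prod.ext (by simpa using hj) (by simpa using hx.2.symm)⟩
      · rintro ⟨j, rfl⟩
        simp [(hex _).2 ⟨j, rfl⟩])
    (fun x => by obtain ⟨g, hg⟩ := hp x.1; exact ⟨(g, x.2), by simp [hg]⟩)
  intro a b hab
  apply this
  rw [LinearMap.rTensor_comp_apply, LinearMap.rTensor_comp_apply, hab]

/-- If `E → P` is surjective, `T1 E` and the kernel stays injective, then `T1 P`. -/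
lemma t1_of_cover {E P S : Type u} [AddCommGroup E] [Module R E] [AddCommGroup P] [Module R P]
    [AddCommGroup S] [Module R S]
    (k : S →ₗ[R] E) (π : E →ₗ[R] P) (hπ : Function.Surjective π) (hkπ : Function.Exact k π)
    (hk : Function.Injective (k.rTensor M)) (hE : T1 (R := R) M E) : T1 (R := R) M P := by
  intro J G _ _ _ _ i p hi hex hp
  let G' : Submodule R (G × E) := LinearMap.eqLocus (p ∘ₗ LinearMap.fst R G E) (π ∘ₗ LinearMap.snd R G E)
  let i' : J →ₗ[R] G' := (LinearMap.inl R G E ∘ₗ i).codRestrict G' fun j => by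
    show p (i j) = π 0
    rw [(hex _).2 ⟨j, rfl⟩, map_zero]
  let p' : G' →ₗ[R] E := LinearMap.snd R G E ∘ₗ G'.subtype
  let q : G' →ₗ[R] G := LinearMap.fst R G E ∘ₗ G'.subtype
  let k' : S →ₗ[R] G' := (LinearMap.inr R G E ∘ₗ k).codRestrict G' fun s => by
    show p 0 = π (k s)
    rw [map_zero, (hkπ _).2 ⟨s, rfl⟩]
  have hi' : Function.Injective (i'.rTensor M) := by
    refine hE J G' i' p' (fun x y h => hi (congrArg Prod.fst (congrArg Subtype.val h))) (fun g => ?_) (fun e => ?_)
    · constructor
      · intro h0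
        have hg : p (g : G × E).1 = π (g : G × E).2 := g.2
        rw [show (g : G × E).2 = 0 from h0, map_zero] at hg
        obtain ⟨j, hj⟩ := (hex _).1 hg
        exact ⟨j, Subtype.ext (Prod.ext hj (show (g : G × E).2 = 0 from h0).symm)⟩
      · rintro ⟨j, rfl⟩; rfl
    · obtain ⟨g, hg⟩ := hp (π e)
      exact ⟨⟨(g, e), hg⟩, rfl⟩
  have hq : Function.Surjective q := fun g => by
    obtain ⟨e, he⟩ := hπ (p g)
    exact ⟨⟨(g, e), he.symm⟩, rfl⟩
  have hk'q : Function.Exact k' q := by
    intro g
    constructor
    · intro h0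
      have hg : p (g : G × E).1 = π (g : G × E).2 := g.2
      rw [show (g : G × E).1 = 0 from h0, map_zero] at hg
      obtain ⟨s, hs⟩ := (hkπ _).1 hg.symm
      exact ⟨s, Subtype.ext (Prod.ext (show (g : G × E).1 = 0 from h0).symm hs)⟩
    · rintro ⟨s, rfl⟩; rfl
  rw [injective_iff_map_eq_zero]
  intro x hx
  have h1 : q.rTensor M (i'.rTensor M x) = 0 := by
    rw [← LinearMap.rTensor_comp_apply]; exact hx
  obtain ⟨s, hs⟩ := (rTensor_exact M hk'q hq _).1 h1
  have h2 : k.rTensor M s = 0 := by
    have := congrArg (p'.rTensor M) hs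
    rw [← LinearMap.rTensor_comp_apply, ← LinearMap.rTensor_comp_apply] at this
    rw [show k = p' ∘ₗ k' from rfl, this, show p' ∘ₗ i' = 0 from rfl, LinearMap.rTensor_zero,
      LinearMap.zero_apply]
  apply hi'
  rw [map_zero, ← hs, hk (h2.trans (map_zero _).symm), map_zero]

/-- All modules over a base ring `S` are `T1` as soon as the free ones are. -/
lemma t1_module {S : Type u} [CommRing S] [Algebra R S] [Module.Flat S (S ⊗[R] M)]
    (hfree : ∀ (V : Type u) [AddCommGroup V] [Module R V] [Module.Free R V], T1 (R := R) M (S ⊗[R] V))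
    (P : Type u) [AddCommGroup P] [Module R P] [Module S P] [IsScalarTower R S P] : T1 (R := R) M P := by
  let π : S ⊗[R] (P →₀ R) →ₗ[S] P := LinearMap.liftBaseChange S (Finsupp.linearCombination R (id : P → P))
  have hπ : Function.Surjective π := fun x => ⟨1 ⊗ₜ Finsupp.single x 1, by simp [π]⟩
  letI : AddCommGroup ↥(LinearMap.ker π) := Submodule.addCommGroup _
  refine @t1_of_cover R _ M _ _ (S ⊗[R] (P →₀ R)) P ↥(LinearMap.ker π) _ _ _ _ _ _
    ((LinearMap.ker π).subtype.restrictScalars R) (π.restrictScalars R) hπ ?_ ?_ (hfree _)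
  · exact LinearMap.exact_subtype_ker_map π
  · have key : ∀ x, ((LinearMap.ker π).subtype.restrictScalars R).rTensor M x =
        AlgebraTensorModule.cancelBaseChange R S S _ M
          ((LinearMap.ker π).subtype.rTensor (S ⊗[R] M)
            ((AlgebraTensorModule.cancelBaseChange R S S _ M).symm x)) := by
      intro x
      induction x using TensorProduct.induction_on with
      | zero => simp
      | tmul p l => simp
      | add a b ha hb => simp [ha, hb]
    intro a b hab
    rw [key, key] at hab
    exact (AlgebraTensorModule.cancelBaseChange R S S _ M).symm.injective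
      (Module.Flat.rTensor_preserves_injective_linearMap _ (LinearMap.ker π).injective_subtype
        ((AlgebraTensorModule.cancelBaseChange R S S _ M).injective hab))

lemma t1_module_of_flat {S : Type u} [CommRing S] [Algebra R S] [Module.Flat R S] [Module.Flat S (S ⊗[R] M)]
    (P : Type u) [AddCommGroup P] [Module R P] [Module S P] [IsScalarTower R S P] : T1 (R := R) M P :=
  t1_module (S := S) (fun V _ _ _ => t1_of_flat (S ⊗[R] V)) P

end Groth.Agent.GluePairLib
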